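import Cfsg.Agent.Lib.ThreeTI.Wreath.Main
import Cfsg.Agent.Lib.TwoGroups.Lifts
import Mathlib.GroupTheory.NoncommCoprod
import Mathlib.GroupTheory.Sylow
import Mathlib.GroupTheory.PGroup

/-!
Recognising the model `S₃ ≀ 2` in the normaliser of a Sylow 3-subgroup of order 9.
-/

set_option autoImplicit false
set_option linter.style.haveILetI false

namespace Cfsg.Agent.ThreeTI.Wreath

open Cfsg Cfsg.Agent.LocalTI

universe u

variable {G : Type u} [Group G] [Finite G]

theorem model_gen : ∀ h : Wr, h * h * h = 1 →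
    ∃ i j : Fin 3, h = (⟨(.r 1, 1), false⟩ : Wr) ^ i.val * (⟨(1, .r 1), false⟩ : Wr) ^ j.val := by
  decide +kernel

theorem model_dihedral : ∀ x : DihedralGroup 3,
    ∃ i : Fin 3, ∃ j : Fin 2, x = DihedralGroup.r 1 ^ i.val * DihedralGroup.sr 0 ^ j.val := by
  decide +kernel

theorem model_four : ∀ h : Wr, Dset h →
    (h ^ 4) * (h ^ 4) * (h ^ 4) = 1 ∧ h ^ 4 ≠ 1 := by decide +kernel

theorem dihedral_four_gen : ∀ x : DihedralGroup 4,
    ∃ i : Fin 4, ∃ j : Fin 2, x = DihedralGroup.r 1 ^ i.val * DihedralGroup.sr 0 ^ j.val := by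
  decide +kernel

/-- A prime dividing the order of the normaliser is 2 or 3. -/
theorem prime_of_dvd (M : Sylow 3 G) (hM9 : Nat.card (M : Subgroup G) = 9)
    (hC : Subgroup.centralizer ((M : Subgroup G) : Set G) = (M : Subgroup G)) {p : ℕ} (hp : p.Prime)
    (hdvd : p ∣ Nat.card (Subgroup.normalizer ((M : Subgroup G) : Set G))) : p = 2 ∨ p = 3 := by
  haveI := Fact.mk hp
  obtain ⟨g, hg⟩ := exists_prime_orderOf_dvd_card' p hdvd
  rw [← Subgroup.orderOf_coe] at hg
  set Q := Subgroup.zpowers (g : G) with hQ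
  have hQp : IsPGroup p Q := IsPGroup.of_card (n := 1) (by rw [Nat.card_zpowers, hg, pow_one])
  have hmem : ∀ q ∈ Q, ∀ x ∈ (M : Subgroup G), q * x * q⁻¹ ∈ (M : Subgroup G) := fun q hq x hx =>
    (Subgroup.mem_normalizer_iff.1 ((Subgroup.zpowers_le.2 g.2) hq) x).1 hx
  letI : MulAction Q (M : Subgroup G) :=
    { smul := fun q x => ⟨q * x * (q : G)⁻¹, hmem q q.2 x x.2⟩
      one_smul := fun x => Subtype.ext (by show (1 : G) * x * (1 : G)⁻¹ = x; group)
      mul_smul := fun a b x => Subtype.ext (by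
        show ((a : G) * b) * x * ((a : G) * b)⁻¹ = a * (b * x * (b : G)⁻¹) * (a : G)⁻¹; group) }
  have hmod := hQp.card_modEq_card_fixedPoints (M : Subgroup G)
  set F : Subgroup G := (M : Subgroup G) ⊓ Subgroup.centralizer ({(g : G)} : Set G) with hF
  have hfix : Nat.card (MulAction.fixedPoints Q (M : Subgroup G)) = Nat.card F := by
    refine Nat.card_congr ⟨fun x => ⟨(x.1 : G), x.1.2, ?_⟩, fun x => ⟨⟨(x : G), x.2.1⟩, ?_⟩,
      fun x => rfl, fun x => rfl⟩
    · refine Subgroup.mem_centralizer_singleton_iff.2 ?_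
      have := congrArg Subtype.val (x.2 ⟨g, Subgroup.mem_zpowers _⟩)
      exact (mul_inv_eq_iff_eq_mul.1 this).symm
    · intro q
      refine Subtype.ext ?_
      obtain ⟨k, hk⟩ := Subgroup.mem_zpowers_iff.1 q.2
      have hc : Commute (g : G) (x : G) := (Subgroup.mem_centralizer_singleton_iff.1 x.2.2).symm
      show (q : G) * x * (q : G)⁻¹ = x
      rw [← hk, (hc.zpow_left k).eq, mul_inv_cancel_right]
  rw [hfix, hM9] at hmod
  have hFd : Nat.card F ∣ 3 ^ 2 := by
    rw [show (3 : ℕ) ^ 2 = 9 by norm_num, ← hM9]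
    exact Subgroup.card_dvd_of_le inf_le_left
  obtain ⟨i, hi, hFi⟩ := (Nat.dvd_prime_pow Nat.prime_three).1 hFd
  rw [hFi] at hmod
  interval_cases i
  · exact Or.inl ((Nat.prime_dvd_prime_iff_eq hp Nat.prime_two).1
      (hp.dvd_of_dvd_pow (n := 3) ((Nat.modEq_iff_dvd' (by norm_num : (1 : ℕ) ≤ 9)).1 hmod.symm)))
  · have h6 : p ∣ 2 * 3 := (Nat.modEq_iff_dvd' (by norm_num : (3 : ℕ) ≤ 9)).1 hmod.symm
    rcases hp.dvd_mul.1 h6 with h | h
    · exact Or.inl ((Nat.prime_dvd_prime_iff_eq hp Nat.prime_two).1 h)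
    · exact Or.inr ((Nat.prime_dvd_prime_iff_eq hp Nat.prime_three).1 h)
  · have hFM : F = (M : Subgroup G) :=
      Subgroup.eq_of_le_of_card_ge inf_le_left (by rw [hFi, hM9]; norm_num)
    have hgM : (g : G) ∈ (M : Subgroup G) := by
      refine hC.le (Subgroup.mem_centralizer_iff.2 ?_)
      intro x hx
      exact Subgroup.mem_centralizer_singleton_iff.1 (hFM.ge hx).2
    have h9 : p ∣ 3 ^ 2 := by
      have := Subgroup.orderOf_dvd_natCard _ hgM
      rwa [hg, hM9] at this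
    exact Or.inr ((Nat.prime_dvd_prime_iff_eq hp Nat.prime_three).1 (hp.dvd_of_dvd_pow h9))

theorem exists_emb (M : Sylow 3 G) (hM9 : Nat.card (M : Subgroup G) = 9)
    (hMel : ∀ m ∈ (M : Subgroup G), m ^ 3 = 1)
    (hC : Subgroup.centralizer ((M : Subgroup G) : Set G) = (M : Subgroup G))
    (N : Subgroup G) (hN : N = Subgroup.normalizer ((M : Subgroup G) : Set G))
    (hCg : ∀ g ∈ (M : Subgroup G), g ≠ 1 → Subgroup.centralizer ({g} : Set G) ≤ N)
    (hS : ∀ S : Sylow 2 ↥N, Nonempty (↥(S : Subgroup ↥N) ≃* DihedralGroup 4)) :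
    ∃ ι : Wr →* G, Emb ι Dset := by
  classical
  haveI : Fact (Nat.Prime 3) := ⟨Nat.prime_three⟩
  haveI : Fact (Nat.Prime 2) := ⟨Nat.prime_two⟩
  subst hN
  set T := (M : Subgroup G) with hT
  set N := Subgroup.normalizer (T : Set G) with hN
  set TN := T.subgroupOf N with hTN'
  have hTN : T ≤ N := Subgroup.le_normalizer
  haveI : TN.Normal := Subgroup.normal_in_normalizer
  have hTcard : Nat.card TN = 9 := by
    rw [Nat.card_congr (Subgroup.subgroupOfEquivOfLe hTN).toEquiv]; exact hM9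
  have hcomm : ∀ x ∈ T, ∀ y ∈ T, x * y = y * x := fun x hx y hy =>
    Subgroup.mem_centralizer_iff.1 (hC.ge hy) x hx
  obtain ⟨V⟩ : Nonempty (Sylow 2 N) := inferInstance
  obtain ⟨e⟩ := hS V
  have hV : Nat.card (V : Subgroup N) = 8 := by
    rw [Nat.card_congr e.toEquiv, DihedralGroup.nat_card]
  -- the quotient by the Sylow 3-subgroup is a 2-group
  have hidx : TN.index = 8 := by
    have h3 : ¬ 3 ∣ TN.index := by
      intro h
      refine M.not_dvd_index ?_
      refine h.trans ?_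
      rw [← hT, ← Subgroup.relIndex_mul_index hTN]
      exact dvd_mul_right _ _
    have hpow : TN.index = 2 ^ TN.index.factorization 2 := by
      have := Nat.eq_prime_pow_of_unique_prime_dvd (p := 2) Subgroup.index_ne_zero_of_finite
        (n := TN.index) (fun {q} hp hd => ?_)
      · rw [this, Nat.Prime.factorization_pow Nat.prime_two, Finsupp.single_eq_same]
      rcases prime_of_dvd M hM9 hC hp (hd.trans (Subgroup.index_dvd_card TN)) with h | h
      · exact h
      · exact absurd (h ▸ hd) h3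
    have hv := V.card_eq_multiplicity
    rw [hV] at hv
    have hN' : Nat.card N = 9 * TN.index := by rw [← hTcard, TN.card_mul_index]
    have h2 : (Nat.card N).factorization 2 = TN.index.factorization 2 := by
      rw [hN', Nat.factorization_mul (by norm_num) Subgroup.index_ne_zero_of_finite]
      simp [Nat.factorization_eq_zero_of_not_dvd (show ¬ 2 ∣ 9 by norm_num)]
    rw [h2, ← hpow] at hv
    exact hv.symm
  have hNcard : Nat.card N = 72 := by
    have := TN.card_mul_index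
    rw [hTcard, hidx] at this
    omega
  set π : (V : Subgroup N) →* (↥N ⧸ TN) := (QuotientGroup.mk' TN).comp (V : Subgroup N).subtype
    with hπ
  have hπinj : Function.Injective π := by
    rw [injective_iff_map_eq_one]
    intro v hv
    have h1 : (v : N) ∈ TN := by
      simpa [hπ, QuotientGroup.eq_one_iff] using hv
    have h2 := Subgroup.orderOf_dvd_natCard TN h1
    rw [Subgroup.orderOf_coe, hTcard] at h2
    have h3 : orderOf v ∣ 8 := hV ▸ orderOf_dvd_natCard v
    exact orderOf_eq_one_iff.1 (Nat.eq_one_of_dvd_coprimes (by norm_num : Nat.Coprime 9 8) h2 h3)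
  have hπsurj : Function.Surjective π := by
    refine (Function.Injective.bijective_of_nat_card_le hπinj ?_).2
    rw [← Subgroup.index_eq_card, hidx, hV]
  -- the dihedral group inside `G`
  set j : DihedralGroup 4 →* G :=
    N.subtype.comp ((V : Subgroup N).subtype.comp e.symm.toMonoidHom) with hj
  have hjinj : Function.Injective j :=
    N.subtype_injective.comp ((V : Subgroup N).subtype_injective.comp e.symm.injective)
  have hjN : ∀ x, j x ∈ N := fun x => ((e.symm x : (V : Subgroup N)) : N).2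
  have hconj : ∀ w ∈ N, ∀ x ∈ T, w * x * w⁻¹ ∈ T :=
    fun w hw x hx => (Subgroup.mem_normalizer_iff.1 hw x).1 hx
  have moves : ∀ x, x ≠ 1 → ∃ m ∈ T, j x * m * (j x)⁻¹ ≠ m := by
    intro x hx
    by_contra h
    push Not at h
    have hxT : j x ∈ T := by
      refine hC.le (Subgroup.mem_centralizer_iff.2 ?_)
      intro m hm
      exact (mul_inv_eq_iff_eq_mul.1 (h m hm)).symm
    have h2 : orderOf x ∣ 8 := by
      have := orderOf_dvd_natCard x
      rwa [DihedralGroup.nat_card] at this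
    have h3 : orderOf x ∣ 9 := by
      rw [← orderOf_injective j hjinj x, ← hM9]
      exact Subgroup.orderOf_dvd_natCard _ hxT
    exact hx (orderOf_eq_one_iff.1
      (Nat.eq_one_of_dvd_coprimes (by norm_num : Nat.Coprime 9 8) h3 h2))
  obtain ⟨r, hr⟩ : ∃ r, r = j (.r 1) := ⟨_, rfl⟩
  obtain ⟨s, hs⟩ : ∃ s, s = j (.sr 0) := ⟨_, rfl⟩
  have rel : ∀ x y : DihedralGroup 4, x = y → j x = j y := fun x y h => by rw [h]
  have hs2 : s * s = 1 := by rw [hs, ← map_mul, ← map_one j]; exact rel _ _ (by decide)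
  have hsinv : s⁻¹ = s := inv_eq_of_mul_eq_one_right hs2
  have hr4 : r * r * (r * r) = 1 := by
    rw [hr, ← map_mul, ← map_mul, ← map_one j]; exact rel _ _ (by decide)
  have hsr : s * r * s = r⁻¹ := by
    rw [hr, hs, ← map_mul, ← map_mul, ← map_inv]; exact rel _ _ (by decide)
  have hsrN : s ∈ N ∧ r ∈ N := ⟨hs ▸ hjN _, hr ▸ hjN _⟩
  have hsplit : ∀ w ∈ N, w * w = 1 → ∀ x ∈ T,
      w * (x * (w * x * w⁻¹)⁻¹) * w⁻¹ = (x * (w * x * w⁻¹)⁻¹)⁻¹ ∧
      w * (x * (w * x * w⁻¹)) * w⁻¹ = x * (w * x * w⁻¹) := by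
    intro w hw h2 x hx
    have hw' : w⁻¹ = w := inv_eq_of_mul_eq_one_right h2
    have e : w * (w * x * w⁻¹) * w⁻¹ = x := by
      rw [hw', show w * (w * x * w) * w = (w * w) * x * (w * w) by group, h2]; group
    constructor
    · rw [← MulAut.conj_apply w, map_mul, map_inv, MulAut.conj_apply, MulAut.conj_apply, e,
        mul_inv_rev, inv_inv]
    · rw [← MulAut.conj_apply w, map_mul, MulAut.conj_apply, MulAut.conj_apply, e]
      exact hcomm _ (hconj w hw x hx) _ hx
  -- an involution fixing `b` and inverting `a` determines everything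
  have hspan : ∀ w a b : G, a ∈ T → b ∈ T → a ≠ 1 → b ≠ 1 → w * a * w⁻¹ = a⁻¹ →
      w * b * w⁻¹ = b → ∀ x ∈ T, ∃ i j : ℤ, x = a ^ i * b ^ j := by
    intro w a b haT hbT ha1 hb1 hwa hwb
    have ord : ∀ x ∈ T, x ≠ 1 → orderOf x = 3 := fun x hx h1 =>
      orderOf_eq_prime (hMel x hx) h1
    have hane : ∀ i : ℤ, b ≠ a ^ i := by
      intro i e
      have h1 : w * b * w⁻¹ = b⁻¹ := by rw [e, ← conj_zpow, hwa, inv_zpow]
      rw [hwb, eq_inv_iff_mul_eq_one] at h1
      apply hb1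
      have h3 := hMel b hbT
      rwa [pow_three, h1, mul_one] at h3
    let f : Fin 3 × Fin 3 → T := fun s =>
      ⟨a ^ (s.1.val : ℤ) * b ^ (s.2.val : ℤ),
        Subgroup.mul_mem _ (Subgroup.zpow_mem _ haT _) (Subgroup.zpow_mem _ hbT _)⟩
    have hinj : Function.Injective f := by
      rintro ⟨i, j⟩ ⟨i', j'⟩ h
      have h' : a ^ (i.val : ℤ) * b ^ (j.val : ℤ) = a ^ (i'.val : ℤ) * b ^ (j'.val : ℤ) :=
        congrArg Subtype.val h
      have h'' : b ^ ((j.val : ℤ) - j'.val) = a ^ ((i'.val : ℤ) - i.val) := by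
        rw [zpow_sub, zpow_sub]
        have e1 : b ^ (j.val : ℤ) = (a ^ (i.val : ℤ))⁻¹ * (a ^ (i'.val : ℤ) * b ^ (j'.val : ℤ)) := by
          rw [← h', inv_mul_cancel_left]
        rw [e1]; group
      have ha3 := ord a haT ha1
      rcases eq_or_ne j j' with rfl | hne
      · rw [mul_left_inj, zpow_natCast, zpow_natCast] at h'
        have := pow_injOn_Iio_orderOf (x := a) (by rw [ha3]; exact i.isLt : i.val < orderOf a)
          (by rw [ha3]; exact i'.isLt : i'.val < orderOf a) h'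
        rw [Fin.ext this]
      · exfalso
        have hj : ¬ (3 : ℤ) ∣ (j.val : ℤ) - j'.val := by
          intro hd'
          apply hne
          have := j.isLt; have := j'.isLt
          exact Fin.ext (by omega)
        obtain ⟨m, hm⟩ : ∃ m : ℤ, (3 : ℤ) ∣ ((j.val : ℤ) - j'.val) * m - 1 :=
          ⟨(j.val : ℤ) - j'.val, by
            obtain ⟨k, hk | hk⟩ : ∃ k, (j.val : ℤ) - j'.val = 3 * k + 1 ∨
                (j.val : ℤ) - j'.val = 3 * k + 2 := ⟨((j.val : ℤ) - j'.val) / 3, by omega⟩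
            · exact ⟨3 * k * k + 2 * k, by rw [hk]; ring⟩
            · exact ⟨3 * k * k + 4 * k + 1, by rw [hk]; ring⟩⟩
        apply hane (((i'.val : ℤ) - i.val) * m)
        rw [zpow_mul, ← h'', ← zpow_mul]
        obtain ⟨k, hk⟩ := hm
        rw [show ((j.val : ℤ) - j'.val) * m = 3 * k + 1 by linarith, zpow_add, zpow_mul,
          show b ^ (3 : ℤ) = 1 by exact_mod_cast hMel b hbT, one_zpow, one_mul, zpow_one]
    have hbij := hinj.bijective_of_nat_card_le (by rw [Nat.card_prod, Nat.card_fin]; exact hM9.le)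
    intro x hx
    obtain ⟨s, hs⟩ := hbij.2 ⟨x, hx⟩
    exact ⟨_, _, (congrArg Subtype.val hs).symm⟩
  -- the centre inverts `T`
  have hz2 : r * r * (r * r) = 1 := hr4
  have hzN : r * r ∈ N := N.mul_mem hsrN.2 hsrN.2
  have hzinv : (r * r)⁻¹ = r * r := inv_eq_of_mul_eq_one_right hr4
  have hzr : r * r ≠ 1 := by
    rw [hr, ← map_mul, ← map_one j]; exact hjinj.ne (by decide)
  have hinvert : ∀ x ∈ T, r * r * x * (r * r)⁻¹ = x⁻¹ := by
    intro x hx
    by_contra hne
    set b := x * (r * r * x * (r * r)⁻¹) with hb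
    have hbT : b ∈ T := T.mul_mem hx (hconj _ hzN x hx)
    have hb1 : b ≠ 1 := fun e => hne (eq_inv_of_mul_eq_one_right e)
    have hzb : r * r * b * (r * r)⁻¹ = b := (hsplit _ hzN hr4 x hx).2
    obtain ⟨y, hy, hmv⟩ := moves (.r 1 * .r 1) (by decide)
    rw [map_mul, ← hr] at hmv
    set a := y * (r * r * y * (r * r)⁻¹)⁻¹ with ha
    have haT : a ∈ T := T.mul_mem hy (T.inv_mem (hconj _ hzN y hy))
    have ha1 : a ≠ 1 := fun e => hmv (by rw [ha, mul_inv_eq_one] at e; exact e.symm)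
    have hza : r * r * a * (r * r)⁻¹ = a⁻¹ := (hsplit _ hzN hr4 y hy).1
    obtain ⟨i, k, hik⟩ := hspan _ a b haT hbT ha1 hb1 hza hzb _ (hconj r hsrN.2 a haT)
    -- `r` commutes with `r * r`, so it preserves the two eigenspaces
    have h1 : r * r * (r * a * r⁻¹) * (r * r)⁻¹ = (r * a * r⁻¹)⁻¹ := by
      rw [show r * r * (r * a * r⁻¹) * (r * r)⁻¹ = r * (r * r * a * (r * r)⁻¹) * r⁻¹ by group, hza]
      group
    rw [hik, ← MulAut.conj_apply, map_mul, map_zpow, map_zpow, MulAut.conj_apply, MulAut.conj_apply,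
      hza, hzb, mul_inv_rev (a ^ i) (b ^ k),
      hcomm _ (T.inv_mem (T.zpow_mem hbT _)) _ (T.inv_mem (T.zpow_mem haT _)),
      inv_zpow, mul_right_inj, eq_inv_iff_mul_eq_one] at h1
    have hk : b ^ k = 1 := by
      have h3 := hMel _ (T.zpow_mem hbT k)
      rwa [pow_three, h1, mul_one] at h3
    rw [hk, mul_one] at hik
    have h2 : r * r * a * (r * r)⁻¹ = a ^ (i * i) := by
      rw [show r * r * a * (r * r)⁻¹ = r * (r * a * r⁻¹) * r⁻¹ by group, hik, ← conj_zpow, hik,
        ← zpow_mul]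
    rw [hza] at h2
    have ha3 : orderOf a = 3 := orderOf_eq_prime (hMel a haT) ha1
    have h4 : a ^ (i * i + 1) = 1 := by rw [zpow_add_one, ← h2, inv_mul_cancel]
    have h5 : (3 : ℤ) ∣ i * i + 1 := by
      have := orderOf_dvd_iff_zpow_eq_one.2 h4
      rwa [ha3] at this
    obtain ⟨q, hq | hq | hq⟩ : ∃ q, i = 3 * q ∨ i = 3 * q + 1 ∨ i = 3 * q + 2 :=
      ⟨i / 3, by omega⟩ <;> subst hq <;> ring_nf at h5 <;> omega
  -- the four involutions and the generators of `T`
  obtain ⟨y, hy, hmv⟩ := moves (.sr 0) (by decide)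
  rw [← hs] at hmv
  set a := y * (s * y * s⁻¹)⁻¹ with ha
  have haT : a ∈ T := T.mul_mem hy (T.inv_mem (hconj _ hsrN.1 y hy))
  have ha1 : a ≠ 1 := fun e => hmv (by rw [ha, mul_inv_eq_one] at e; exact e.symm)
  have hsa : s * a * s⁻¹ = a⁻¹ := (hsplit _ hsrN.1 hs2 y hy).1
  set b := r * a * r⁻¹ with hb
  have hbT : b ∈ T := hconj _ hsrN.2 a haT
  have hb1 : b ≠ 1 := fun e => ha1 (conj_eq_one_iff.1 e)
  have hrz : ∀ g : G, r⁻¹ * (r * r * g * (r * r)⁻¹) * r = r * g * r⁻¹ := fun g => by group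
  have hsb : s * b * s⁻¹ = b := by
    have e1 : s * r = r⁻¹ * s := by rw [← hsr, mul_assoc, hs2, mul_one]
    calc s * b * s⁻¹ = (s * r) * a * (s * r)⁻¹ := by rw [hb]; group
      _ = r⁻¹ * (s * a * s⁻¹) * r := by rw [e1]; group
      _ = r⁻¹ * (r * r * a * (r * r)⁻¹) * r := by rw [hsa, hinvert a haT]
      _ = b := hrz a
  have hgen := hspan s a b haT hbT ha1 hb1 hsa hsb
  set w := s * r with hw
  have hw2 : w * w = 1 := by
    rw [hw, show s * r * (s * r) = (s * r * s) * r by group, hsr, inv_mul_cancel]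
  have hwinv : w⁻¹ = w := inv_eq_of_mul_eq_one_right hw2
  have hwa : w * a * w⁻¹ = b := by
    rw [show w * a * w⁻¹ = s * (r * a * r⁻¹) * s⁻¹ by rw [hw]; group, ← hb, hsb]
  have hwb : w * b * w⁻¹ = a := by
    rw [show w * b * w⁻¹ = s * (r * r * a * (r * r)⁻¹) * s⁻¹ by rw [hw, hb]; group, hinvert a haT,
      show s * a⁻¹ * s⁻¹ = (s * a * s⁻¹)⁻¹ by group, hsa, inv_inv]
  set u := w * s * w⁻¹ with hu
  have hu2 : u * u = 1 := by
    rw [hu, show w * s * w⁻¹ * (w * s * w⁻¹) = w * (s * s) * w⁻¹ by group, hs2]; group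
  have hua : u * a * u⁻¹ = a := by
    rw [show u * a * u⁻¹ = w * (s * (w⁻¹ * a * w) * s⁻¹) * w⁻¹ by rw [hu]; group]
    rw [show w⁻¹ * a * w = b by rw [hwinv]; nth_rewrite 2 [← hwinv]; exact hwa, hsb, hwb]
  have hub : u * b * u⁻¹ = b⁻¹ := by
    rw [show u * b * u⁻¹ = w * (s * (w⁻¹ * b * w) * s⁻¹) * w⁻¹ by rw [hu]; group]
    rw [show w⁻¹ * b * w = a by rw [hwinv]; nth_rewrite 2 [← hwinv]; exact hwb, hsa,
      show w * a⁻¹ * w⁻¹ = (w * a * w⁻¹)⁻¹ by group, hwa]
  have hus : u = s * (r * r) := by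
    rw [hu, hw, show s * r * s * (s * r)⁻¹ = (s * r * s) * r⁻¹ * s⁻¹ by group, hsr, hsinv]
    calc r⁻¹ * r⁻¹ * s = (r * r)⁻¹ * s := by group
      _ = (r * r) * s := by rw [hzinv]
      _ = s * ((s * r * s) * (s * r * s)) := by
          rw [show s * ((s * r * s) * (s * r * s)) = (s * s) * r * (s * s) * r * s by group, hs2]
          group
      _ = s * (r * r) := by rw [hsr, ← mul_inv_rev, hzinv]
  have hsu : s * u = u * s := by
    rw [hus, show s * (r * r) * s = (s * r * s) * (s * r * s) by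
      rw [show (s * r * s) * (s * r * s) = s * r * (s * s) * r * s by group, hs2]; group, hsr,
      ← mul_inv_rev, hzinv, ← mul_assoc, hs2, one_mul]
  -- the homomorphism
  have ha3 : a ^ 3 = 1 := hMel a haT
  have hb3 : b ^ 3 = 1 := hMel b hbT
  set φ := TwoLift.dHom 3 ha3 hs2 hsa with hφ
  set ψ := TwoLift.dHom 3 hb3 hu2 hub with hψ
  have hcom : ∀ x y, Commute (φ x) (ψ y) := by
    have hba : Commute a b := hcomm a haT b hbT
    have hcb : Commute s b := mul_inv_eq_iff_eq_mul.1 hsb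
    have hau : Commute u a := mul_inv_eq_iff_eq_mul.1 hua
    intro x y
    have hx : φ x ∈ Subgroup.closure ({a, s} : Set G) :=
      TwoLift.dHom_range ha3 hs2 hsa ▸ ⟨x, rfl⟩
    have hy : ψ y ∈ Subgroup.closure ({b, u} : Set G) :=
      TwoLift.dHom_range hb3 hu2 hub ▸ ⟨y, rfl⟩
    have h1 : Subgroup.closure ({a, s} : Set G) ≤ Subgroup.centralizer ({b, u} : Set G) := by
      rw [Subgroup.closure_le]
      rintro z (rfl | rfl) <;> rw [SetLike.mem_coe, Subgroup.mem_centralizer_iff] <;>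
        rintro v (rfl | rfl)
      exacts [hba.eq.symm, hau.eq, hcb.eq.symm, hsu.symm]
    have h2 := h1 hx
    rw [← Subgroup.centralizer_closure, Subgroup.mem_centralizer_iff] at h2
    exact (h2 _ hy).symm
  set ι₀ : Grid.Mod →* G := MonoidHom.noncommCoprod φ ψ hcom with hι
  have hi : ∀ h : Grid.Mod, ι₀ h = φ h.1 * ψ h.2 := fun h =>
    MonoidHom.noncommCoprod_apply φ ψ hcom h
  have hφ1 : φ (.r 1) = a := by
    show Additive.toMul (TwoLift.pw 3 ha3 1) = a
    have := TwoLift.pw_intCast 3 ha3 1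
    rwa [Int.cast_one, zpow_one] at this
  have hψ1 : ψ (.r 1) = b := by
    show Additive.toMul (TwoLift.pw 3 hb3 1) = b
    have := TwoLift.pw_intCast 3 hb3 1
    rwa [Int.cast_one, zpow_one] at this
  have hφs : φ (.sr 0) = s := by
    show s * Additive.toMul (TwoLift.pw 3 ha3 0) = s
    simp
  have hψs : ψ (.sr 0) = u := by
    show u * Additive.toMul (TwoLift.pw 3 hb3 0) = u
    simp
  have hwφ : ∀ x, w * φ x * w⁻¹ = ψ x := by
    intro x
    obtain ⟨i, k, rfl⟩ := model_dihedral x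
    rw [map_mul, map_mul, map_pow, map_pow, map_pow, map_pow, hφ1, hψ1, hφs, hψs,
      ← MulAut.conj_apply, map_mul, map_pow, map_pow, MulAut.conj_apply, MulAut.conj_apply, hwa,
      ← hu]
  have hwψ : ∀ x, w * ψ x * w⁻¹ = φ x := by
    intro x
    rw [← hwφ x, hwinv, show w * (w * φ x * w) * w = (w * w) * φ x * (w * w) by group, hw2]
    group
  have hswap : ∀ p : Grid.Mod, w * ι₀ p = ι₀ p.swap * w := by
    intro p
    rw [← mul_inv_eq_iff_eq_mul, hi, hi, ← MulAut.conj_apply, map_mul, MulAut.conj_apply,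
      MulAut.conj_apply, hwφ, hwψ]
    exact (hcom p.2 p.1).eq.symm
  let ι : Wr →* G :=
    { toFun := fun h => ι₀ h.p * (if h.e then w else 1)
      map_one' := by simp [one_def]
      map_mul' := by
        rintro ⟨p, e⟩ ⟨q, f⟩
        cases e <;> cases f <;>
          simp [mul_def, flipIf, map_mul, mul_assoc, ← mul_assoc w, hswap, hw2] }
  have hι0 : ∀ p, ι ⟨p, false⟩ = ι₀ p := fun p => mul_one _
  have hle : ι.range ≤ N := by
    have hwN : w ∈ N := N.mul_mem hsrN.1 hsrN.2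
    have hφN : ∀ x, φ x ∈ N := fun x => by
      obtain ⟨i, k, rfl⟩ := model_dihedral x
      rw [map_mul, map_pow, map_pow, hφ1, hφs]
      exact N.mul_mem (N.pow_mem (hTN haT) _) (N.pow_mem hsrN.1 _)
    have hψN : ∀ x, ψ x ∈ N := fun x =>
      hwφ x ▸ N.mul_mem (N.mul_mem hwN (hφN x)) (N.inv_mem hwN)
    rintro _ ⟨⟨p, e⟩, rfl⟩
    refine N.mul_mem ?_ ?_
    · show ι₀ p ∈ N
      rw [hi]; exact N.mul_mem (hφN _) (hψN _)
    · show (if e then w else 1) ∈ N
      split_ifs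
      exacts [hwN, N.one_mem]
  have hia : ι ⟨(.r 1, 1), false⟩ = a := by rw [hι0, hi, hφ1, map_one, mul_one]
  have hib : ι ⟨(1, .r 1), false⟩ = b := by rw [hι0, hi, hψ1, map_one, one_mul]
  have his : ι ⟨(.sr 0, 1), false⟩ = s := by rw [hι0, hi, hφs, map_one, mul_one]
  have hiw : ι ⟨1, true⟩ = w := by
    show ι₀ 1 * w = w
    rw [map_one, one_mul]
  have hTrange : T ≤ ι.range := by
    intro x hx
    obtain ⟨i, k, rfl⟩ := hgen x hx
    exact ι.range.mul_mem (ι.range.zpow_mem ⟨_, hia⟩ i) (ι.range.zpow_mem ⟨_, hib⟩ k)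
  have hjrange : ∀ x, j x ∈ ι.range := by
    intro x
    have hsR : s ∈ ι.range := ⟨_, his⟩
    have hrR : r ∈ ι.range := by
      have := ι.range.mul_mem hsR (⟨_, hiw⟩ : w ∈ ι.range)
      rwa [hw, ← mul_assoc, hs2, one_mul] at this
    obtain ⟨i, k, rfl⟩ := dihedral_four_gen x
    rw [map_mul, map_pow, map_pow, ← hr, ← hs]
    exact ι.range.mul_mem (ι.range.pow_mem hrR _) (ι.range.pow_mem hsR _)
  have hrange : ι.range = N := by
    refine le_antisymm hle fun x hx => ?_
    obtain ⟨v, hv⟩ := hπsurj (QuotientGroup.mk' TN ⟨x, hx⟩)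
    have h1 : (v : N)⁻¹ * ⟨x, hx⟩ ∈ TN := QuotientGroup.eq.1 hv
    have h2 : (((v : N) : G))⁻¹ * x ∈ T := h1
    have hvR : ((v : N) : G) ∈ ι.range := by
      have := hjrange (e v)
      simpa [hj] using this
    have h3 := ι.range.mul_mem hvR (hTrange h2)
    rwa [mul_inv_cancel_left] at h3
  have hinj : Function.Injective ι := by
    have hsurj : Function.Surjective ι.rangeRestrict := ι.rangeRestrict_surjective
    have hb := hsurj.bijective_of_nat_card_le (by
      rw [hrange, hNcard, Nat.card_eq_fintype_card,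
        show Fintype.card Wr = 72 by decide +kernel])
    exact fun x y h => hb.1 (Subtype.ext h)
  have hmem : ∀ h : Wr, ι h ∈ T ↔ h * h * h = 1 := by
    intro h
    refine ⟨fun hh => hinj ?_, fun hh => ?_⟩
    · rw [map_mul, map_mul, map_one, mul_assoc, ← pow_three, hMel _ hh]
    · obtain ⟨i, k, rfl⟩ := model_gen h hh
      rw [map_mul, map_pow, map_pow, hia, hib]
      exact T.mul_mem (T.pow_mem haT _) (T.pow_mem hbT _)
  refine ⟨ι, hinj, fun h h' hh hh' g hg => ?_⟩
  obtain ⟨e1, e2⟩ := model_four h hh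
  obtain ⟨f1, f2⟩ := model_four h' hh'
  have ht : ι (h ^ 4) ∈ T := (hmem _).2 e1
  have ht' : ι (h' ^ 4) ∈ T := (hmem _).2 f1
  have hgt : g * ι (h ^ 4) * g⁻¹ = ι (h' ^ 4) := by rw [map_pow, map_pow, ← hg, conj_pow]
  have hne : ι (h' ^ 4) ≠ 1 := (map_ne_one_iff ι hinj).2 f2
  rw [hrange, hN, Subgroup.mem_normalizer_iff_map_conj_eq]
  refine Subgroup.eq_of_le_of_card_ge (fun z hz => ?_)
    (le_of_eq (Subgroup.card_map_of_injective (MulAut.conj g).injective).symm)
  obtain ⟨w', hw', rfl⟩ := hz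
  have hzN' : g * w' * g⁻¹ ∈ N := by
    refine hCg _ ht' hne (Subgroup.mem_centralizer_singleton_iff.2 ?_)
    rw [← hgt]
    calc g * w' * g⁻¹ * (g * ι (h ^ 4) * g⁻¹) = g * (w' * ι (h ^ 4)) * g⁻¹ := by group
      _ = g * (ι (h ^ 4) * w') * g⁻¹ := by rw [hcomm w' hw' _ ht]
      _ = _ := by group
  show g * w' * g⁻¹ ∈ T
  obtain ⟨k, hk⟩ : g * w' * g⁻¹ ∈ ι.range := hrange ▸ hzN'
  rw [← hk]
  refine (hmem k).2 (hinj ?_)
  rw [map_mul, map_mul, map_one, hk, mul_assoc, ← pow_three, conj_pow, hMel w' hw', mul_one,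
    mul_inv_cancel]

end Cfsg.Agent.ThreeTI.Wreath
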