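import Mathlib

/-!
A branch and bound search for five degrees `A, B, d, e, h` with
`1 + 2/A + 2/B + 1/d + 2/e + 8/h = 648/G` and `1 + 2A² + 2B² + d² + 2e² + h² ≤ G`.
-/

set_option autoImplicit false
set_option maxRecDepth 20000

namespace Cfsg.Agent.ThreeTI.Wreath

/-- Numerators. -/
def co : Fin 5 → ℤ := ![2, 2, 1, 2, 8]
/-- Multiplicities. -/
def wt : Fin 5 → ℤ := ![2, 2, 1, 2, 1]
/-- Residues modulo 9. -/
def res : Fin 5 → ℤ := ![4, 4, 1, 1, 2]

/-- A partial assignment. -/
abbrev State := Fin 5 → Option ℤ

/-- Assign a value. -/
def put (s : State) (i : Fin 5) (v : ℤ) : State := fun j => if j = i then some v else s j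

/-- Assign a value if the position is empty and the arguments are known. -/
def deriveAt (s : State) (i : Fin 5) (v : Option ℤ) : State :=
  match s i, v with
  | none, some x => put s i x
  | _, _ => s

/-- One round of the relations `A = d + e + h`, `B = 1 + e + h`, `A = B + d - 1`. -/
def round (s : State) : State :=
  let s := deriveAt s 0 ((s 2).bind fun d => (s 3).bind fun e => (s 4).map fun h => d + e + h)
  let s := deriveAt s 2 ((s 0).bind fun a => (s 3).bind fun e => (s 4).map fun h => a - e - h)
  let s := deriveAt s 3 ((s 0).bind fun a => (s 2).bind fun d => (s 4).map fun h => a - d - h)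
  let s := deriveAt s 4 ((s 0).bind fun a => (s 2).bind fun d => (s 3).map fun e => a - d - e)
  let s := deriveAt s 1 ((s 3).bind fun e => (s 4).map fun h => 1 + e + h)
  let s := deriveAt s 3 ((s 1).bind fun b => (s 4).map fun h => b - 1 - h)
  let s := deriveAt s 4 ((s 1).bind fun b => (s 3).map fun e => b - 1 - e)
  let s := deriveAt s 0 ((s 1).bind fun b => (s 2).map fun d => b + d - 1)
  let s := deriveAt s 1 ((s 0).bind fun a => (s 2).map fun d => a - d + 1)
  deriveAt s 2 ((s 0).bind fun a => (s 1).map fun b => a - b + 1)

/-- Known entries. -/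
def known (s : State) : List (Fin 5 × ℤ) :=
  (List.finRange 5).filterMap fun i => (s i).map fun v => (i, v)

/-- Unknown positions. -/
def unknown (s : State) : List (Fin 5) := (List.finRange 5).filter fun i => (s i).isNone

/-- A common denominator. -/
def den (l : List (Fin 5 × ℤ)) : ℤ := (l.map fun p => (p.2.natAbs : ℤ)).prod

/-- The numerator of the known part of the sum. -/
def num (l : List (Fin 5 × ℤ)) : ℤ := den l + (l.map fun p => co p.1 * (den l / p.2)).sum

/-- The known part of the sum of squares. -/
def sqs (l : List (Fin 5 × ℤ)) : ℤ := 1 + (l.map fun p => wt p.1 * (p.2 * p.2)).sum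

/-- A bound for some unknown entry. -/
def boundOK (N D q W w : ℤ) (M : ℤ) : Bool :=
  decide (2 ≤ M) && ((decide (0 < N) && decide (648 * D * M < (N * M - W * D) * (q + w * (M * M)))) ||
    (decide (N < 0) && decide (N * M + W * D ≤ 0)))

/-- Search for a bound. -/
def findBound (N D q W w : ℤ) : ℕ → ℤ → Option ℤ
  | 0, _ => none
  | k + 1, M => if boundOK N D q W w M then some M else findBound N D q W w k (M + M / 4 + 1)

/-- The surviving solutions `(d, e, h, G)`. -/
def cands : List (ℤ × ℤ × ℤ × ℤ) :=
  [(-8, 10, -7, 20160), (-8, 10, -16, 20160), (28, -8, -25, 201600), (10, 10, -16, 720),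
    (19, -8, -7, 38304)]

/-- The test at a complete assignment. -/
def leafOK (l : List (Fin 5 × ℤ)) (s : State) : Bool :=
  let N := num l
  let D := den l
  decide (N ≤ 0) || decide ((648 * D) % N ≠ 0) ||
    (let G := 648 * D / N
     decide (G < sqs l) || l.any (fun p => decide (G % p.2 ≠ 0)) ||
      match s 2, s 3, s 4 with
      | some d, some e, some h => cands.contains (d, e, h, G)
      | _, _, _ => false)

/-- Branch and bound. -/
def check : ℕ → State → Bool
  | fuel, s =>
    let l := known s
    if l.any (fun p => decide (p.2.natAbs < 2)) then true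
    else
      let fr := unknown s
      if fr.isEmpty then leafOK l s
      else
        match fuel with
        | 0 => false
        | fuel + 1 =>
          match findBound (num l) (den l) (sqs l) ((fr.map co).sum) ((fr.map wt).sum) 80 2 with
          | none => false
          | some M =>
            fr.all fun i => (List.range (2 * (M / 9 + 1).toNat + 1)).all fun (k : ℕ) =>
              let v := res i + 9 * ((k : ℤ) - (M / 9 + 1))
              decide (v < -M) || decide (M < v) || check fuel (round (put s i v))

theorem check_true : check 4 (fun _ => none) = true := by decide +kernel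

/-- A state agrees with an assignment. -/
def Agree (s : State) (x : Fin 5 → ℤ) : Prop := ∀ i v, s i = some v → x i = v

theorem agree_deriveAt {s : State} {x : Fin 5 → ℤ} (h : Agree s x) (i : Fin 5) (v : Option ℤ)
    (hv : ∀ y, v = some y → x i = y) : Agree (deriveAt s i v) x := by
  unfold deriveAt
  split
  · intro j y hj
    unfold put at hj
    split_ifs at hj with e
    · subst e
      exact hv y (by simpa using hj)
    · exact h j y hj
  · exact h

/-- The relations. -/
def Rels (x : Fin 5 → ℤ) : Prop := x 0 = x 2 + x 3 + x 4 ∧ x 1 = 1 + x 3 + x 4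

theorem agree_round {s : State} {x : Fin 5 → ℤ} (hx : Rels x) (h : Agree s x) :
    Agree (round s) x := by
  obtain ⟨h0, h1⟩ := hx
  have t : ∀ {s : State} {i j : Fin 5} {f : ℤ → ℤ → ℤ}, Agree s x →
      (∀ y, ((s i).bind fun a => (s j).map fun b => f a b) = some y → y = f (x i) (x j)) := by
    intro s i j f hs y hy
    simp only [Option.bind_eq_some_iff, Option.map_eq_some_iff] at hy
    obtain ⟨a, ha, b, hb, rfl⟩ := hy
    rw [hs i a ha, hs j b hb]
  have t3 : ∀ {s : State} {i j k : Fin 5} {f : ℤ → ℤ → ℤ → ℤ}, Agree s x →
      (∀ y, ((s i).bind fun a => (s j).bind fun b => (s k).map fun c => f a b c) = some y →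
        y = f (x i) (x j) (x k)) := by
    intro s i j k f hs y hy
    simp only [Option.bind_eq_some_iff, Option.map_eq_some_iff] at hy
    obtain ⟨a, ha, b, hb, c, hc, rfl⟩ := hy
    rw [hs i a ha, hs j b hb, hs k c hc]
  have step : ∀ {s : State}, Agree s x → ∀ (i : Fin 5) (v : Option ℤ),
      (Agree s x → ∀ y, v = some y → x i = y) → Agree (deriveAt s i v) x :=
    fun hs i v hv => agree_deriveAt hs i v (hv hs)
  simp only [round]
  refine step (step (step (step (step (step (step (step (step (step h
    0 _ fun hs y hy => ?_) 2 _ fun hs y hy => ?_) 3 _ fun hs y hy => ?_) 4 _ fun hs y hy => ?_)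
    1 _ fun hs y hy => ?_) 3 _ fun hs y hy => ?_) 4 _ fun hs y hy => ?_) 0 _ fun hs y hy => ?_)
    1 _ fun hs y hy => ?_) 2 _ fun hs y hy => ?_
  · have := t3 (f := fun d e h => d + e + h) hs y hy; omega
  · have := t3 (f := fun a e h => a - e - h) hs y hy; omega
  · have := t3 (f := fun a d h => a - d - h) hs y hy; omega
  · have := t3 (f := fun a d e => a - d - e) hs y hy; omega
  · have := t (f := fun e h => 1 + e + h) hs y hy; omega
  · have := t (f := fun b h => b - 1 - h) hs y hy; omega
  · have := t (f := fun b e => b - 1 - e) hs y hy; omega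
  · have := t (f := fun b d => b + d - 1) hs y hy; omega
  · have := t (f := fun a d => a - d + 1) hs y hy; omega
  · have := t (f := fun a b => a - b + 1) hs y hy; omega

theorem list_div_sum (l : List (Fin 5 × ℤ)) (D : ℤ) (h : ∀ p ∈ l, p.2 ∣ D)
    (h' : ∀ p ∈ l, p.2 ≠ 0) :
    (((l.map fun p => co p.1 * (D / p.2)).sum : ℤ) : ℚ) =
      D * (l.map fun p => (co p.1 : ℚ) / p.2).sum := by
  induction l with
  | nil => simp
  | cons p t ih =>
    simp only [List.map_cons, List.sum_cons, Int.cast_add, Int.cast_mul]
    rw [ih (fun q hq => h q (List.mem_cons_of_mem _ hq))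
      (fun q hq => h' q (List.mem_cons_of_mem _ hq)),
      Int.cast_div (h p List.mem_cons_self) (Int.cast_ne_zero.2 (h' p List.mem_cons_self))]
    ring

/-- The search is sound. -/
theorem check_sound : ∀ (fuel : ℕ) (s : State), check fuel s = true → ∀ (x : Fin 5 → ℤ) (G : ℤ),
    Agree s x → Rels x → (∀ i, 2 ≤ (x i).natAbs) → (∀ i, x i % 9 = res i) → (∀ i, x i ∣ G) →
    1 + ∑ i, wt i * (x i * x i) ≤ G → (G : ℚ) * (1 + ∑ i, (co i : ℚ) / x i) = 648 →
    (x 2, x 3, x 4, G) ∈ cands := by
  intro fuel
  induction fuel with
  | zero =>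
    intro s hs x G hag hrel h2 hres hdvd hsq hG
    unfold check at hs
    simp only at hs
    split_ifs at hs with hsmall hfr
    · simp only [List.any_eq_true, decide_eq_true_eq, known, List.mem_filterMap,
        Option.map_eq_some_iff] at hsmall
      obtain ⟨_, ⟨i, -, v, hv, rfl⟩, hlt⟩ := hsmall
      have := h2 i
      rw [hag i v hv] at this
      omega
    · exact leaf s hs x G hag hfr hdvd hsq hG
  | succ fuel ih =>
    intro s hs x G hag hrel h2 hres hdvd hsq hG
    unfold check at hs
    simp only at hs
    split_ifs at hs with hsmall hfr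
    · simp only [List.any_eq_true, decide_eq_true_eq, known, List.mem_filterMap,
        Option.map_eq_some_iff] at hsmall
      obtain ⟨_, ⟨i, -, v, hv, rfl⟩, hlt⟩ := hsmall
      have := h2 i
      rw [hag i v hv] at this
      omega
    · exact leaf s hs x G hag hfr hdvd hsq hG
    split at hs
    · exact absurd hs Bool.false_ne_true
    next M hM =>
    have hok : ∀ k m, findBound (num (known s)) (den (known s)) (sqs (known s))
        ((unknown s).map co).sum ((unknown s).map wt).sum k m = some M →
        boundOK (num (known s)) (den (known s)) (sqs (known s)) ((unknown s).map co).sum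
          ((unknown s).map wt).sum M = true := by
      intro k
      induction k with
      | zero => intro m hm; simp [findBound] at hm
      | succ k ihk =>
        intro m hm
        unfold findBound at hm
        split_ifs at hm with hb
        · obtain rfl := Option.some.inj hm; exact hb
        · exact ihk _ hm
    have hb := hok _ _ hM
    by_cases hex : ∃ i ∈ unknown s, (x i).natAbs ≤ M.toNat
    · obtain ⟨i, hi, hle⟩ := hex
      simp only [boundOK, Bool.and_eq_true, decide_eq_true_eq] at hb
      have hM2 := hb.1
      rw [List.all_eq_true] at hs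
      have hs' := hs i hi
      rw [List.all_eq_true] at hs'
      have hxi := hres i
      have hr : ∀ j : Fin 5, 0 ≤ res j ∧ res j < 9 := by decide
      obtain ⟨r0, r9⟩ := hr i
      set k0 : ℤ := (x i - res i) / 9 + (M / 9 + 1) with hk0
      have h := hs' k0.toNat (List.mem_range.2 (by omega))
      have hv : res i + 9 * ((k0.toNat : ℤ) - (M / 9 + 1)) = x i := by omega
      simp only [hv, Bool.or_eq_true, decide_eq_true_eq] at h
      rcases h with (h | h) | h
      · omega
      · omega
      · refine ih _ h x G (agree_round hrel ?_) hrel h2 hres hdvd hsq hG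
        intro j v hj
        unfold put at hj
        split_ifs at hj with e
        · subst e; exact Option.some.inj hj
        · exact hag j v hj
    · exfalso
      push Not at hex
      exact no_large s hb x G hag h2 hex hsq hG
where
  parts (s : State) (x : Fin 5 → ℤ) (hag : Agree s x) (f : Fin 5 → ℤ → ℚ) :
      ∑ i, f i (x i) = ((known s).map fun p => f p.1 p.2).sum +
        ((unknown s).map fun i => f i (x i)).sum := by
    rw [Fin.sum_univ_def]
    have key : ∀ l : List (Fin 5), (l.map fun i => f i (x i)).sum =
        ((l.filterMap fun i => (s i).map fun v => (i, v)).map fun p => f p.1 p.2).sum +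
          ((l.filter fun i => (s i).isNone).map fun i => f i (x i)).sum := by
      intro l
      induction l with
      | nil => simp
      | cons i t ih =>
        cases h : s i with
        | none =>
          simp only [List.map_cons, List.sum_cons, List.filterMap_cons, h, Option.map_none,
            List.filter_cons, Option.isNone_none, if_true, ih]
          ring
        | some v =>
          simp only [List.map_cons, List.sum_cons, List.filterMap_cons, h, Option.map_some,
            List.filter_cons, Option.isNone_some, Bool.false_eq_true, if_false, ih, hag i v h]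
          ring
    exact key (List.finRange 5)
  ratio (s : State) (x : Fin 5 → ℤ) (hag : Agree s x) (h2 : ∀ i, x i ≠ 0) :
      (0 : ℤ) < den (known s) ∧ (den (known s) : ℚ) * (1 + ∑ i, (co i : ℚ) / x i) =
        num (known s) + den (known s) * ((unknown s).map fun i => (co i : ℚ) / x i).sum := by
    have hne : ∀ p ∈ known s, p.2 ≠ 0 := by
      intro p hp
      simp only [known, List.mem_filterMap, Option.map_eq_some_iff] at hp
      obtain ⟨i, -, v, hv, rfl⟩ := hp
      exact hag i v hv ▸ h2 i
    refine ⟨List.prod_pos fun a ha => ?_, ?_⟩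
    · obtain ⟨p, hp, rfl⟩ := List.mem_map.1 ha
      exact Int.natCast_pos.2 (Int.natAbs_pos.2 (hne p hp))
    · rw [parts s x hag (fun i v => (co i : ℚ) / v), num, Int.cast_add, list_div_sum]
      · ring
      · intro p hp
        have hmem : (p.2.natAbs : ℤ) ∈ (known s).map fun p : Fin 5 × ℤ => (p.2.natAbs : ℤ) :=
          List.mem_map.2 ⟨p, hp, rfl⟩
        exact (Int.dvd_natAbs.2 dvd_rfl).trans (List.dvd_prod hmem)
      · exact hne
  squares (s : State) (x : Fin 5 → ℤ) (hag : Agree s x) :
      ((1 + ∑ i, wt i * (x i * x i) : ℤ) : ℚ) =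
        sqs (known s) + ((unknown s).map fun i => (wt i : ℚ) * ((x i : ℚ) * x i)).sum := by
    push_cast
    rw [parts s x hag (fun i v => (wt i : ℚ) * ((v : ℚ) * v)), sqs]
    push_cast
    rw [List.map_map, ← add_assoc]
    simp [Function.comp_def]
  leaf (s : State) (hs : leafOK (known s) s = true) (x : Fin 5 → ℤ) (G : ℤ) (hag : Agree s x)
      (hfr : (unknown s).isEmpty = true) (hdvd : ∀ i, x i ∣ G)
      (hsq : 1 + ∑ i, wt i * (x i * x i) ≤ G)
      (hG : (G : ℚ) * (1 + ∑ i, (co i : ℚ) / x i) = 648) : (x 2, x 3, x 4, G) ∈ cands := by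
    have hnil : unknown s = [] := List.isEmpty_iff.1 hfr
    have hall : ∀ i, s i = some (x i) := by
      intro i
      cases h : s i with
      | none =>
        have : i ∈ unknown s := List.mem_filter.2 ⟨List.mem_finRange i, by simp [h]⟩
        simp [hnil] at this
      | some v => rw [hag i v h]
    have hne : ∀ i, x i ≠ 0 := by
      intro i h
      have := hdvd i
      rw [h, zero_dvd_iff] at this
      rw [this] at hG
      simp at hG
    obtain ⟨hD, hR⟩ := ratio s x hag hne
    have hS := squares s x hag
    simp only [hnil, List.map_nil, List.sum_nil, mul_zero, add_zero] at hR hS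
    have e1 : G * num (known s) = 648 * den (known s) := by
      have : ((G * num (known s) : ℤ) : ℚ) = ((648 * den (known s) : ℤ) : ℚ) := by
        push_cast; rw [← hR, ← hG]; ring
      exact_mod_cast this
    have e2 : 1 + ∑ i, wt i * (x i * x i) = sqs (known s) := by exact_mod_cast hS
    have hG0 : 0 < G := by
      have : 0 ≤ ∑ i, wt i * (x i * x i) := Finset.sum_nonneg fun i _ =>
        mul_nonneg (by revert i; decide) (mul_self_nonneg _)
      omega
    have hN : 0 < num (known s) := pos_of_mul_pos_right (by rw [e1]; omega) hG0.le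
    have e3 : 648 * den (known s) / num (known s) = G := by
      rw [← e1, Int.mul_ediv_cancel _ hN.ne']
    simp only [leafOK, e3, Bool.or_eq_true, decide_eq_true_eq, List.any_eq_true] at hs
    rcases hs with (h | h) | ((h | ⟨p, hp, hpd⟩) | h)
    · omega
    · exact absurd (by rw [← e1, Int.mul_emod_left]) h
    · omega
    · simp only [known, List.mem_filterMap, Option.map_eq_some_iff] at hp
      obtain ⟨i, -, v, hv, rfl⟩ := hp
      exact absurd (Int.emod_eq_zero_of_dvd (hag i v hv ▸ hdvd i)) hpd
    · simpa [hall, List.contains_iff_mem] using h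
  no_large (s : State) {M : ℤ} (hb : boundOK (num (known s)) (den (known s)) (sqs (known s))
        ((unknown s).map co).sum ((unknown s).map wt).sum M = true) (x : Fin 5 → ℤ) (G : ℤ)
      (hag : Agree s x) (h2 : ∀ i, 2 ≤ (x i).natAbs)
      (hex : ∀ i ∈ unknown s, M.toNat < (x i).natAbs)
      (hsq : 1 + ∑ i, wt i * (x i * x i) ≤ G)
      (hG : (G : ℚ) * (1 + ∑ i, (co i : ℚ) / x i) = 648) : False := by
    simp only [boundOK, Bool.and_eq_true, Bool.or_eq_true, decide_eq_true_eq] at hb
    obtain ⟨hM2, hb⟩ := hb
    have hne : ∀ i, x i ≠ 0 := fun i h => by simpa [h] using h2 i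
    obtain ⟨hD, hR⟩ := ratio s x hag hne
    have hS := squares s x hag
    set D := den (known s)
    set N := num (known s)
    set q := sqs (known s)
    set U := ((unknown s).map fun i => (co i : ℚ) / x i).sum with hUdef
    set V := ((unknown s).map fun i => (wt i : ℚ) * ((x i : ℚ) * x i)).sum with hVdef
    have hMq : (2 : ℚ) ≤ M := by exact_mod_cast hM2
    have hcow : ∀ i : Fin 5, 0 ≤ co i ∧ 0 ≤ wt i := by decide
    have habs : ∀ i ∈ unknown s, (M : ℚ) ≤ |(x i : ℚ)| := by
      intro i hi
      have := hex i hi
      have h : M ≤ |x i| := by rw [Int.abs_eq_natAbs]; omega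
      exact_mod_cast h
    have bU : |U| * M ≤ ((((unknown s).map co).sum : ℤ) : ℚ) := by
      rw [hUdef]
      clear_value U
      clear hUdef hR
      generalize hl : unknown s = l at habs
      clear hl
      induction l with
      | nil => simp
      | cons i t ih =>
        simp only [List.map_cons, List.sum_cons, Int.cast_add]
        have h1 := ih fun j hj => habs j (List.mem_cons_of_mem _ hj)
        have h2 : |(co i : ℚ) / x i| * M ≤ co i := by
          have hx := habs i List.mem_cons_self
          have hc : (0 : ℚ) ≤ co i := by exact_mod_cast (hcow i).1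
          rw [abs_div, abs_of_nonneg hc, div_mul_eq_mul_div, div_le_iff₀ (by linarith)]
          exact mul_le_mul_of_nonneg_left hx hc
        calc _ ≤ (|(co i : ℚ) / x i| + |(t.map fun i => (co i : ℚ) / x i).sum|) * M :=
              mul_le_mul_of_nonneg_right (abs_add_le _ _) (by linarith)
          _ ≤ _ := by linarith
    have bV : ((((unknown s).map wt).sum : ℤ) : ℚ) * ((M : ℚ) * M) ≤ V := by
      rw [hVdef]
      clear_value V
      clear hVdef hS
      generalize hl : unknown s = l at habs
      clear hl
      induction l with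
      | nil => simp
      | cons i t ih =>
        simp only [List.map_cons, List.sum_cons, Int.cast_add]
        have h1 := ih fun j hj => habs j (List.mem_cons_of_mem _ hj)
        have hx := habs i List.mem_cons_self
        have hw : (0 : ℚ) ≤ wt i := by exact_mod_cast (hcow i).2
        have : (M : ℚ) * M ≤ (x i : ℚ) * x i := by
          rw [← abs_mul_abs_self (x i : ℚ)]
          exact mul_le_mul hx hx (by linarith) (abs_nonneg _)
        nlinarith
    have hGq : (q : ℚ) + V ≤ G := by rw [← hS]; exact_mod_cast hsq
    set W : ℤ := ((unknown s).map co).sum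
    set w : ℤ := ((unknown s).map wt).sum
    have hDq : (0 : ℚ) < D := by exact_mod_cast hD
    set R := 1 + ∑ i, (co i : ℚ) / x i
    have hlo : ((N : ℚ) * M - W * D) ≤ D * R * M := by
      rw [hR]
      have u1 : -(W : ℚ) ≤ U * M := by
        have := mul_le_mul_of_nonneg_right (neg_abs_le U) (by linarith : (0 : ℚ) ≤ M)
        linarith
      have := mul_le_mul_of_nonneg_left u1 hDq.le
      linarith
    have hhi : D * R * M ≤ (N : ℚ) * M + W * D := by
      rw [hR]
      have u1 : U * M ≤ (W : ℚ) := by
        have := mul_le_mul_of_nonneg_right (le_abs_self U) (by linarith : (0 : ℚ) ≤ M)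
        linarith
      have := mul_le_mul_of_nonneg_left u1 hDq.le
      linarith
    rcases hb with ⟨hN, hb⟩ | ⟨hN, hb⟩
    · have hb' : 648 * (D : ℚ) * M < ((N : ℚ) * M - W * D) * (q + w * ((M : ℚ) * M)) := by
        exact_mod_cast hb
      have hq0 : (0 : ℚ) < q + w * ((M : ℚ) * M) := by
        have hq1 : (1 : ℤ) ≤ q := by
          simp only [q, sqs]
          have : 0 ≤ ((known s).map fun p => wt p.1 * (p.2 * p.2)).sum :=
            List.sum_nonneg fun a ha => by
              obtain ⟨p, -, rfl⟩ := List.mem_map.1 ha
              exact mul_nonneg (hcow p.1).2 (mul_self_nonneg _)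
          omega
        have hw0 : 0 ≤ w := List.sum_nonneg fun a ha => by
          obtain ⟨p, -, rfl⟩ := List.mem_map.1 ha
          exact (hcow p).2
        have : (1 : ℚ) ≤ q := by exact_mod_cast hq1
        have : (0 : ℚ) ≤ w := by exact_mod_cast hw0
        positivity
      have hpos : (0 : ℚ) < (N : ℚ) * M - W * D := by
        by_contra h
        have := mul_nonpos_of_nonpos_of_nonneg (not_lt.1 h) hq0.le
        nlinarith
      have : 648 * (D : ℚ) * M < D * R * M * G :=
        calc _ < _ := hb'
          _ ≤ (D * R * M) * G := mul_le_mul hlo (by linarith) hq0.le (by linarith)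
      rw [show D * R * M * G = (G * R) * D * M by ring, hG] at this
      exact lt_irrefl _ this
    · have hb' : (N : ℚ) * M + W * D ≤ 0 := by exact_mod_cast hb
      have hG0 : (0 : ℚ) ≤ G := by
        have : 0 ≤ ∑ i, wt i * (x i * x i) := Finset.sum_nonneg fun i _ =>
          mul_nonneg (hcow i).2 (mul_self_nonneg _)
        have : (0 : ℤ) ≤ G := by omega
        exact_mod_cast this
      have h1 := mul_nonpos_of_nonneg_of_nonpos hG0 (hhi.trans hb')
      rw [show (G : ℚ) * (D * R * M) = (G * R) * D * M by ring, hG] at h1
      nlinarith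

/-- The five possibilities. -/
theorem five_degrees {x : Fin 5 → ℤ} {G : ℤ} (hrel : Rels x) (h2 : ∀ i, 2 ≤ (x i).natAbs)
    (hres : ∀ i, x i % 9 = res i) (hdvd : ∀ i, x i ∣ G)
    (hsq : 1 + ∑ i, wt i * (x i * x i) ≤ G)
    (hG : (G : ℚ) * (1 + ∑ i, (co i : ℚ) / x i) = 648) : (x 2, x 3, x 4, G) ∈ cands :=
  check_sound 4 _ check_true x G (fun _ _ h => by simp at h) hrel h2 hres hdvd hsq hG

end Cfsg.Agent.ThreeTI.Wreath
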