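import Cfsg.Agent.Lib.ThreeTI.Columns
import Cfsg.Agent.Lib.ThreeTI.Wreath.Bound

/-!
The exceptional characters for the normaliser `S₃ ≀ 2`: the arithmetic of their degrees and of
their values at an involution is contradictory when there is no linear character besides the
principal one.
-/

set_option autoImplicit false
set_option maxRecDepth 20000

namespace Cfsg.Agent.ThreeTI.Wreath

/-- The Gram matrix of the nonprincipal columns. -/
def gram : Fin 4 → Fin 4 → ℤ := ![![3, 1, 1, 2], ![1, 4, 2, 2], ![1, 2, 3, 1], ![2, 2, 1, 4]]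

/-- The six possible configurations. -/
def configs : List (List (Fin 4 → ℤ)) :=
  [[![1, 1, 1, 0], ![1, 0, 0, 1], ![1, 0, 0, 1], ![0, 1, 1, 1], ![0, 1, 0, 1], ![0, 1, 0, 0],
      ![0, 0, 1, 0]],
    [![1, 1, 0, 1], ![1, 0, 1, 0], ![1, 0, 0, 1], ![0, 1, 1, 1], ![0, 1, 1, 0], ![0, 1, 0, 0],
      ![0, 0, 0, 1]],
    [![1, 1, 0, 1], ![1, 0, 1, 1], ![1, 0, 0, 0], ![0, 1, 1, 0], ![0, 1, 1, 0], ![0, 1, 0, 1],
      ![0, 0, 0, 1]],
    [![1, 1, 1, 1], ![1, 0, 0, 1], ![1, 0, 0, 0], ![0, 1, 1, 0], ![0, 1, 0, 1], ![0, 1, 0, 0],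
      ![0, 0, 1, 0], ![0, 0, 0, 1]],
    [![1, 1, 1, 1], ![1, 0, 0, 1], ![1, 0, 0, 0], ![0, 1, 1, 1], ![0, 1, 0, 0], ![0, 1, 0, 0],
      ![0, 0, 1, -1]],
    [![1, 1, 1, 1], ![1, 1, 0, 1], ![1, -1, 0, 0], ![0, 1, 1, 0], ![0, 0, 1, 0], ![0, 0, 0, 1],
      ![0, 0, 0, 1]]]

theorem keyOK_four : KeyOK 4 := by decide +kernel

theorem search_gram : search 14 gram (3 ^ 4) = configs := by decide +kernel

theorem key_le : ∀ c ∈ vecs 4, key c ≤ 3 ^ 4 := by decide +kernel

/-- The value on the class of `e`. -/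
def Ee (c : Fin 4 → ℤ) : ℤ := 2 * (c 2 + c 3) - (c 0 + c 1)

/-- The value on the class of `f`. -/
def Ef (c : Fin 4 → ℤ) : ℤ := 2 * (c 0 + c 1) - (c 2 + c 3)

/-- The value on the class of `et`. -/
def Et (c : Fin 4 → ℤ) : ℤ := c 0 - c 1

/-- The value on the class of `ft`. -/
def Eft (c : Fin 4 → ℤ) : ℤ := c 2 - c 3

/-- The two products for the values at the involution. -/
def lins : List ((Fin 4 → ℤ) → ℤ) := [fun c => Ee c * Ef c, fun c => Ee c * Eft c]

/-- The two cubic products. -/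
def cubs : List ((Fin 4 → ℤ) → ℤ) :=
  [fun c => Ee c * Ee c * Ef c, fun c => Ee c * Ef c * Ef c]

/-- The numerical data. -/
structure Sys (I : Type*) [Fintype I] [DecidableEq I] where
  o : I
  κ : I → Fin 4 → ℤ
  d : I → ℤ
  t : I → ℤ
  N : ℤ
  κ_o : κ o = ![1, 0, 1, 0]
  d_o : d o = 1
  t_o : t o = 1
  d_two : ∀ i, i ≠ o → 2 ≤ d i
  d_dvd : ∀ i, d i ∣ N
  N_ne : N ≠ 720
  sq : ∑ i, d i * d i = N
  t_le : ∀ i, -(d i) ≤ t i ∧ t i ≤ d i
  orth : ∀ k l, ∑ i, κ i k * κ i l = κ o k * κ o l + gram k l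
  van_d : ∀ k, ∑ i, κ i k * d i = 0
  van_t : ∀ k, ∑ i, κ i k * t i = 0
  cong_t : ∀ i, 3 ∣ t i - Et (κ i)
  cong_d : ∀ i, 9 ∣ d i + 4 * Ee (κ i) + 4 * Ef (κ i)
  eq_t : ∀ P ∈ lins, ∑ i, ((P (κ i) * t i : ℤ) : ℚ) / d i = 0
  eq_cub : ∀ P ∈ cubs, (N : ℚ) * ∑ i, (P (κ i) : ℚ) / d i = 648

/-- One nonprincipal column, normalised to have leading entry `1`. -/
structure Col where
  c : Fin 4 → ℤ
  d : ℤ
  t : ℤ

/-- The local conditions. -/
structure Col.OK (C : Col) (N : ℤ) : Prop where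
  two : 2 ≤ C.d ∨ C.d ≤ -2
  dvd : C.d ∣ N
  le : (-C.d ≤ C.t ∧ C.t ≤ C.d) ∨ (C.d ≤ C.t ∧ C.t ≤ -C.d)
  cong_t : 3 ∣ C.t - Et C.c
  cong_d : 9 ∣ C.d + 4 * Ee C.c + 4 * Ef C.c

/-- The global conditions. -/
structure Global (N : ℤ) (l : List Col) : Prop where
  ok : ∀ C ∈ l, C.OK N
  sq : 1 + (l.map fun C => C.d * C.d).sum ≤ N
  N_ne : N ≠ 720
  van_d : ∀ k, (![1, 0, 1, 0] : Fin 4 → ℤ) k + (l.map fun C => C.c k * C.d).sum = 0
  van_t : ∀ k, (![1, 0, 1, 0] : Fin 4 → ℤ) k + (l.map fun C => C.c k * C.t).sum = 0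
  eq_t : ∀ P ∈ lins, (P ![1, 0, 1, 0] : ℚ) +
    (l.map fun C => ((P C.c * C.t : ℤ) : ℚ) / C.d).sum = 0
  eq_cub : ∀ P ∈ cubs, (N : ℚ) * ((P ![1, 0, 1, 0] : ℚ) +
    (l.map fun C => (P C.c : ℚ) / C.d).sum) = 648

variable {N : ℤ}

theorem N_pos {l : List Col} (H : Global N l) : 0 < N := by
  have h : 0 ≤ (l.map fun C => C.d * C.d).sum := List.sum_nonneg fun a ha => by
    obtain ⟨C, -, rfl⟩ := List.mem_map.1 ha
    exact mul_self_nonneg _
  have := H.sq
  omega

theorem cubs_eq {l : List Col} (H : Global N l) :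
    (l.map fun C => ((Ee C.c * Ee C.c * Ef C.c : ℤ) : ℚ) / C.d).sum =
      (l.map fun C => ((Ee C.c * Ef C.c * Ef C.c : ℤ) : ℚ) / C.d).sum := by
  have h1 := H.eq_cub (fun c => Ee c * Ee c * Ef c) (by simp [cubs])
  have h2 := H.eq_cub (fun c => Ee c * Ef c * Ef c) (by simp [cubs])
  have hN : (N : ℚ) ≠ 0 := Int.cast_ne_zero.2 (N_pos H).ne'
  have h3 := mul_left_cancel₀ hN (h1.trans h2.symm)
  simp [Ee, Ef] at h3 ⊢
  linarith

theorem ne_zero_of_two {d : ℤ} (h : 2 ≤ d ∨ d ≤ -2) : (d : ℚ) ≠ 0 :=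
  Int.cast_ne_zero.2 (by omega)

theorem abs_bound {d t : ℤ} (h : (-d ≤ t ∧ t ≤ d) ∨ (d ≤ t ∧ t ≤ -d)) : -|d| ≤ t ∧ t ≤ |d| := by
  rcases h with ⟨h1, h2⟩ | ⟨h1, h2⟩ <;>
    constructor <;> linarith [le_abs_self d, neg_abs_le d]

theorem not_mod_nine {x y z : ℤ} (hx : 9 ∣ x - 5) (hy : 9 ∣ y - 5) (hz : 9 ∣ z - 5) :
    x * y + x * z + y * z ≠ 0 := by
  intro h
  obtain ⟨i, hi⟩ := hx
  obtain ⟨j, hj⟩ := hy
  obtain ⟨k, hk⟩ := hz
  obtain rfl : x = 9 * i + 5 := by omega
  obtain rfl : y = 9 * j + 5 := by omega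
  obtain rfl : z = 9 * k + 5 := by omega
  ring_nf at h
  omega

theorem case_one {g e f d c b a : Col}
    (eg : g.c = ![1, 1, 1, 0]) (ee : e.c = ![1, 0, 0, 1]) (ef : f.c = ![1, 0, 0, 1])
    (ed : d.c = ![0, 1, 1, 1]) (ec : c.c = ![0, 1, 0, 1]) (eb : b.c = ![0, 1, 0, 0])
    (ea : a.c = ![0, 0, 1, 0])
    (H : Global N [g, e, f, d, c, b, a]) : False := by
  have C := cubs_eq H
  obtain ⟨ok, -, -, vd, -, -, -⟩ := H
  simp only [List.forall_mem_cons, List.not_mem_nil, false_imp_iff, implies_true, and_true] at ok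
  obtain ⟨og, oe, of, od, oc, ob, oa⟩ := ok
  have d0 := vd 0; have d1 := vd 1; have d2 := vd 2; have d3 := vd 3
  simp [ea, eb, ec, ed, ee, ef, eg] at d0 d1 d2 d3
  simp [ea, eb, ec, ed, ee, ef, eg, Ee, Ef] at C
  have := ne_zero_of_two oa.two; have := ne_zero_of_two ob.two
  have hab : (a.d : ℚ) = b.d := by
    field_simp at C
    linarith
  have hab' : a.d = b.d := by exact_mod_cast hab
  have := oc.two
  omega

theorem case_three {g f e c d b a : Col}
    (eg : g.c = ![1, 1, 0, 1]) (ef : f.c = ![1, 0, 1, 1]) (ee : e.c = ![1, 0, 0, 0])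
    (ec : c.c = ![0, 1, 1, 0]) (ed : d.c = ![0, 1, 1, 0]) (eb : b.c = ![0, 1, 0, 1])
    (ea : a.c = ![0, 0, 0, 1])
    (H : Global N [g, f, e, c, d, b, a]) : False := by
  have C := cubs_eq H
  obtain ⟨ok, -, -, vd, -, -, -⟩ := H
  simp only [List.forall_mem_cons, List.not_mem_nil, false_imp_iff, implies_true, and_true] at ok
  obtain ⟨og, of, oe, oc, od, ob, oa⟩ := ok
  have d0 := vd 0; have d1 := vd 1; have d2 := vd 2; have d3 := vd 3
  simp [ea, eb, ec, ed, ee, ef, eg] at d0 d1 d2 d3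
  simp [ea, eb, ec, ed, ee, ef, eg, Ee, Ef] at C
  have := ne_zero_of_two oa.two; have := ne_zero_of_two oe.two
  have hab : (a.d : ℚ) = e.d := by
    field_simp at C
    linarith
  have hab' : a.d = e.d := by exact_mod_cast hab
  have := ob.two
  omega

theorem case_five {g f e d b c a : Col}
    (eg : g.c = ![1, 1, 1, 1]) (ef : f.c = ![1, 0, 0, 1]) (ee : e.c = ![1, 0, 0, 0])
    (ed : d.c = ![0, 1, 1, 1]) (eb : b.c = ![0, 1, 0, 0]) (ec : c.c = ![0, 1, 0, 0])
    (ea : a.c = ![0, 0, 1, -1])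
    (H : Global N [g, f, e, d, b, c, a]) : False := by
  have C := cubs_eq H
  obtain ⟨ok, -, -, -, -, -, -⟩ := H
  simp only [List.forall_mem_cons, List.not_mem_nil, false_imp_iff, implies_true, and_true] at ok
  obtain ⟨og, of, oe, od, ob, oc, oa⟩ := ok
  simp [ea, eb, ec, ed, ee, ef, eg, Ee, Ef] at C
  have := ne_zero_of_two ob.two; have := ne_zero_of_two oc.two; have := ne_zero_of_two oe.two
  have hb := ob.cong_d; have hc := oc.cong_d; have he := oe.cong_d
  simp [eb, ec, ee, Ee, Ef] at hb hc he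
  refine not_mod_nine (x := b.d) (y := c.d) (z := e.d) (by omega) (by omega) (by omega) ?_
  have : ((b.d * c.d + b.d * e.d + c.d * e.d : ℤ) : ℚ) = 0 := by
    push_cast
    field_simp at C
    linarith
  exact_mod_cast this

theorem case_six {g f e d c b a : Col}
    (eg : g.c = ![1, 1, 1, 1]) (ef : f.c = ![1, 1, 0, 1]) (ee : e.c = ![1, -1, 0, 0])
    (ed : d.c = ![0, 1, 1, 0]) (ec : c.c = ![0, 0, 1, 0]) (eb : b.c = ![0, 0, 0, 1])
    (ea : a.c = ![0, 0, 0, 1])
    (H : Global N [g, f, e, d, c, b, a]) : False := by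
  have C := cubs_eq H
  obtain ⟨ok, -, -, -, -, -, -⟩ := H
  simp only [List.forall_mem_cons, List.not_mem_nil, false_imp_iff, implies_true, and_true] at ok
  obtain ⟨og, of, oe, od, oc, ob, oa⟩ := ok
  simp [ea, eb, ec, ed, ee, ef, eg, Ee, Ef] at C
  have := ne_zero_of_two ob.two; have := ne_zero_of_two oc.two; have := ne_zero_of_two oa.two
  have hb := ob.cong_d; have hc := oc.cong_d; have ha := oa.cong_d
  simp [ea, eb, ec, Ee, Ef] at hb hc ha
  refine not_mod_nine (x := a.d) (y := b.d) (z := c.d) (by omega) (by omega) (by omega) ?_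
  have : ((a.d * b.d + a.d * c.d + b.d * c.d : ℤ) : ℚ) = 0 := by
    push_cast
    field_simp at C
    linarith
  exact_mod_cast this

/-- No solution in the range allowed by the crude bound. -/
theorem no_small : ∀ k ∈ List.range 13, ∀ j ∈ List.range 11,
    let f : ℤ := 1 + 9 * ((k : ℤ) - 6)
    let a : ℤ := 5 + 9 * ((j : ℤ) - 5)
    let d : ℤ := f + 1 - a
    let c : ℤ := -(d + f + 1)
    let den : ℤ := a * c * f + a * c - 2 * c * f + 2 * a * f
    ¬ (2 ≤ c.natAbs ∧ 2 ≤ f.natAbs ∧ den ≠ 0 ∧ (648 * (a * c * f)) % den = 0 ∧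
      1 + 2 * (a * a) + 2 * (c * c) + 2 * (d * d) + f * f ≤ 648 * (a * c * f) / den) := by
  decide +kernel

theorem case_two {g f e d c b a : Col}
    (eg : g.c = ![1, 1, 0, 1]) (ef : f.c = ![1, 0, 1, 0]) (ee : e.c = ![1, 0, 0, 1])
    (ed : d.c = ![0, 1, 1, 1]) (ec : c.c = ![0, 1, 1, 0]) (eb : b.c = ![0, 1, 0, 0])
    (ea : a.c = ![0, 0, 0, 1])
    (H : Global N [g, f, e, d, c, b, a]) : False := by
  have C := cubs_eq H
  have hN0 := N_pos H
  obtain ⟨ok, hsq, -, vd, -, -, hc'⟩ := H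
  have R := hc' (fun c => Ee c * Ee c * Ef c) (by simp [cubs])
  simp only [List.forall_mem_cons, List.not_mem_nil, false_imp_iff, implies_true, and_true] at ok
  obtain ⟨og, of, oe, od, oc, ob, oa⟩ := ok
  have d0 := vd 0; have d1 := vd 1; have d2 := vd 2; have d3 := vd 3
  simp [ea, eb, ec, ed, ee, ef, eg] at d0 d1 d2 d3 hsq
  simp [ea, eb, ec, ed, ee, ef, eg, Ee, Ef] at C R
  norm_num at C R
  have na := ne_zero_of_two oa.two; have := ne_zero_of_two ob.two
  have nc := ne_zero_of_two oc.two; have nf := ne_zero_of_two of.two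
  have hab : (a.d : ℚ) = b.d := by
    field_simp at C
    linarith
  have hab' : a.d = b.d := by exact_mod_cast hab
  have hgd : g.d = d.d := by omega
  have hec : e.d = c.d := by omega
  have hd : d.d = f.d + 1 - a.d := by omega
  have hc : c.d = -(d.d + f.d + 1) := by omega
  have ha := oa.cong_d; have hf := of.cong_d; have hcc := oc.cong_d
  simp [ea, ef, ec, Ee, Ef] at ha hf hcc
  have hec' : (e.d : ℚ) = c.d := by exact_mod_cast hec
  rw [← hab, hec'] at R
  have R' : (N : ℚ) * (1 + (1 : ℚ) / f.d - 2 / a.d + 2 / c.d) = 648 := by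
    rw [← R]; ring
  rw [hgd, hec, ← hab'] at hsq
  have ta := oa.two; have tc := oc.two; have tf := of.two
  have ia : 1 / (a.d : ℚ) ≤ 1 / 5 := by
    rcases ta with h | h
    · have : (5 : ℚ) ≤ a.d := by exact_mod_cast (show (5 : ℤ) ≤ a.d by omega)
      exact one_div_le_one_div_of_le (by norm_num) this
    · have : (a.d : ℚ) < 0 := by exact_mod_cast (show a.d < 0 by omega)
      have := one_div_neg.2 this
      linarith
  have inv8 : ∀ x : ℤ, (2 ≤ x ∨ x ≤ -2) → 9 ∣ x - 1 → -(1 / 8 : ℚ) ≤ 1 / (x : ℚ) := by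
    intro x hx h9
    rcases hx with h | h
    · have : (0 : ℚ) < x := by exact_mod_cast (show 0 < x by omega)
      have := one_div_pos.2 this
      linarith
    · have : (x : ℚ) ≤ -8 := by exact_mod_cast (show x ≤ -8 by omega)
      have h2 := one_div_le_one_div_of_le (by norm_num : (0 : ℚ) < 8) (le_neg_of_le_neg this)
      rw [div_neg] at h2
      linarith
  have icf := inv8 c.d tc (by omega)
  have iff' := inv8 f.d tf (by omega)
  have hR : (9 / 40 : ℚ) ≤ 1 + (1 : ℚ) / f.d - 2 / a.d + 2 / c.d := by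
    have e1 : (2 : ℚ) / a.d = 2 * (1 / a.d) := by ring
    have e2 : (2 : ℚ) / c.d = 2 * (1 / c.d) := by ring
    linarith
  have hN : N ≤ 2880 := by
    have h0 : (0 : ℚ) ≤ N := by exact_mod_cast hN0.le
    have := mul_le_mul_of_nonneg_left hR h0
    rw [R'] at this
    have : (N : ℚ) ≤ 2880 := by linarith
    exact_mod_cast this
  have ba : -37 ≤ a.d ∧ a.d ≤ 37 := by constructor <;> nlinarith
  have bf : -53 ≤ f.d ∧ f.d ≤ 53 := by constructor <;> nlinarith
  obtain ⟨k, hk, hk'⟩ : ∃ k, k < 13 ∧ f.d = 1 + 9 * ((k : ℕ) - 6 : ℤ) :=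
    ⟨((f.d - 1) / 9 + 6).toNat, by omega, by omega⟩
  obtain ⟨j, hj, hj'⟩ : ∃ j, j < 11 ∧ a.d = 5 + 9 * ((j : ℕ) - 5 : ℤ) :=
    ⟨((a.d - 5) / 9 + 5).toNat, by omega, by omega⟩
  have := no_small k (List.mem_range.2 hk) j (List.mem_range.2 hj)
  simp only [← hk', ← hj', ← hd, ← hc] at this
  set den : ℤ := a.d * c.d * f.d + a.d * c.d - 2 * c.d * f.d + 2 * a.d * f.d with hden
  have e : N * den = 648 * (a.d * c.d * f.d) := by
    have : ((N * den : ℤ) : ℚ) = ((648 * (a.d * c.d * f.d) : ℤ) : ℚ) := by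
      rw [hden]
      push_cast
      rw [← R']
      field_simp
    exact_mod_cast this
  have hden0 : den ≠ 0 := by
    intro h
    rw [h, mul_zero] at e
    rcases mul_eq_zero.1 e.symm with h' | h'
    · omega
    rcases mul_eq_zero.1 h' with h'' | h''
    rcases mul_eq_zero.1 h'' with h3 | h3
    all_goals omega
  refine this ⟨by omega, by omega, hden0, by rw [← e, Int.mul_emod_left], ?_⟩
  rw [← e, Int.mul_ediv_cancel _ hden0]
  linarith

theorem case_four {h g f e d c b a : Col}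
    (eh : h.c = ![1, 1, 1, 1]) (eg : g.c = ![1, 0, 0, 1]) (ef : f.c = ![1, 0, 0, 0])
    (ee : e.c = ![0, 1, 1, 0]) (ed : d.c = ![0, 1, 0, 1]) (ec : c.c = ![0, 1, 0, 0])
    (eb : b.c = ![0, 0, 1, 0]) (ea : a.c = ![0, 0, 0, 1])
    (H : Global N [h, g, f, e, d, c, b, a]) : False := by
  have C := cubs_eq H
  obtain ⟨ok, hsq, hne, vd, vt, et, hc'⟩ := H
  have R := hc' (fun c => Ee c * Ee c * Ef c) (by simp [cubs])
  simp only [List.forall_mem_cons, List.not_mem_nil, false_imp_iff, implies_true, and_true] at ok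
  obtain ⟨oh, og, of, oe, od, oc, ob, oa⟩ := ok
  have d0 := vd 0; have d1 := vd 1; have d2 := vd 2; have d3 := vd 3
  have t0 := vt 0; have t1 := vt 1; have t2 := vt 2; have t3 := vt 3
  simp [ea, eb, ec, ed, ee, ef, eg, eh] at d0 d1 d2 d3 t0 t1 t2 t3 hsq
  simp [ea, eb, ec, ed, ee, ef, eg, eh, Ee, Ef] at C R
  norm_num at C R
  have na := ne_zero_of_two oa.two; have nb := ne_zero_of_two ob.two
  have nc := ne_zero_of_two oc.two; have nf := ne_zero_of_two of.two
  have ca := oa.cong_d; have cb := ob.cong_d; have cc := oc.cong_d; have cd := od.cong_d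
  have ce := oe.cong_d; have cg := og.cong_d; have ch := oh.cong_d
  simp [ea, eb, ec, ed, ee, eg, eh, Ee, Ef] at ca cb cc cd ce cg ch
  have hC : b.d * f.d * (a.d - c.d) + a.d * c.d * (b.d - f.d) = 0 := by
    have : ((b.d * f.d * (a.d - c.d) + a.d * c.d * (b.d - f.d) : ℤ) : ℚ) = 0 := by
      push_cast
      field_simp at C
      linarith
    exact_mod_cast this
  have heg : e.d = g.d := by
    have h1 : (e.d - g.d) * (b.d * f.d - a.d * c.d) = 0 := by
      obtain ⟨h2, h3⟩ : a.d - c.d = e.d - g.d ∧ b.d - f.d = -(e.d - g.d) := ⟨by omega, by omega⟩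
      rw [h2, h3] at hC
      linarith
    rcases mul_eq_zero.1 h1 with h2 | h2
    · omega
    exfalso
    have hd' := od.two
    obtain ⟨sa, sb, h3⟩ : a.d + c.d = -(2 * d.d + e.d + g.d + 2 * h.d) ∧
        b.d + f.d = -(2 + e.d + g.d + 2 * h.d) ∧ a.d - c.d = -(b.d - f.d) :=
      ⟨by omega, by omega, by omega⟩
    have h4 : (a.d + c.d - (b.d + f.d)) * (a.d + c.d + (b.d + f.d)) = 0 := by
      have : (a.d - c.d) * (a.d - c.d) = (b.d - f.d) * (b.d - f.d) := by rw [h3]; ring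
      linarith
    rcases mul_eq_zero.1 h4 with h5 | h5 <;> omega
  have hac : a.d = c.d := by omega
  have hbf : b.d = f.d := by omega
  obtain ⟨hA, hB⟩ : -a.d = d.d + e.d + h.d ∧ -b.d = 1 + e.d + h.d := ⟨by omega, by omega⟩
  have q1 : (c.d : ℚ) = a.d := by exact_mod_cast hac.symm
  have q2 : (f.d : ℚ) = b.d := by exact_mod_cast hbf.symm
  have q3 : (g.d : ℚ) = e.d := by exact_mod_cast heg.symm
  set x : Fin 5 → ℤ := ![-a.d, -b.d, d.d, e.d, h.d] with hx
  have key := five_degrees (x := x) (G := N) ⟨hA, hB⟩ (fun i => by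
      have := oa.two; have := ob.two; have := od.two; have := oe.two; have := oh.two
      fin_cases i <;> simp [hx] <;> omega)
    (fun i => by fin_cases i <;> simp [hx, res] <;> omega)
    (fun i => by fin_cases i <;> simp [hx, oa.dvd, ob.dvd, od.dvd, oe.dvd, oh.dvd])
    (by
      rw [← hac, ← hbf, ← heg] at hsq
      simp [hx, Fin.sum_univ_five, wt]
      linarith)
    (by
      rw [q1, q2, q3] at R
      rw [← R]
      simp [hx, Fin.sum_univ_five, co, div_neg]
      left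
      ring)
  have L := et (fun c => Ee c * Ef c) (by simp [lins])
  have E := et (fun c => Ee c * Eft c) (by simp [lins])
  simp [ea, eb, ec, ed, ee, ef, eg, eh, Ee, Ef, Eft] at L E
  norm_num at L E
  simp only [q1, q2, q3] at L E
  have la := abs_bound oa.le; have lb := abs_bound ob.le; have lc := abs_bound oc.le
  have ld := abs_bound od.le; have le' := abs_bound oe.le; have lf := abs_bound of.le
  have lg := abs_bound og.le; have lh := abs_bound oh.le
  have ka := oa.cong_t; have kb := ob.cong_t; have kc := oc.cong_t; have kd := od.cong_t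
  have ke := oe.cong_t; have kf := of.cong_t; have kg := og.cong_t; have kh := oh.cong_t
  simp [ea, eb, ec, ed, ee, ef, eg, eh, Et] at ka kb kc kd ke kf kg kh
  simp only [cands, List.mem_cons, List.not_mem_nil, or_false, Prod.mk.injEq, hx] at key
  obtain ⟨vA, vB⟩ : a.d = -(d.d + e.d + h.d) ∧ b.d = -(1 + e.d + h.d) := ⟨by omega, by omega⟩
  rcases key with ⟨v1, v2, v3, v4⟩ | ⟨v1, v2, v3, v4⟩ | ⟨v1, v2, v3, v4⟩ | ⟨v1, v2, v3, v4⟩ |
    ⟨v1, v2, v3, v4⟩
  all_goals (try exact hne v4)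
  all_goals (
    simp at v1 v2 v3
    rw [v1, v2, v3] at vA
    rw [v2, v3] at vB
    norm_num at vA vB
    rw [← hac] at lc
    rw [← hbf] at lf
    rw [← heg] at lg
    simp only [v1, v2, v3, vA, vB] at L E la lb lc ld le' lf lg lh
    norm_num at L E la lb lc ld le' lf lg lh
    clear hC hsq C R d0 d1 d2 d3 hA hB oa ob oc od oe of og oh et hc' vd vt
    field_simp at L E
    norm_cast at L E
    omega)

theorem false_of_global {l : List Col} (hl : l.map Col.c ∈ configs) (H : Global N l) : False := by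
  simp only [configs, List.mem_cons, List.not_mem_nil, or_false] at hl
  rcases hl with hl | hl | hl | hl | hl | hl
  · simp only [List.map_eq_cons_iff, List.map_eq_nil_iff] at hl
    obtain ⟨a, _, rfl, ea, b, _, rfl, eb, c, _, rfl, ec, d, _, rfl, ed, e, _, rfl, ee, f, _, rfl, ef,
      g, _, rfl, eg, rfl⟩ := hl
    exact case_one ea eb ec ed ee ef eg H
  · simp only [List.map_eq_cons_iff, List.map_eq_nil_iff] at hl
    obtain ⟨a, _, rfl, ea, b, _, rfl, eb, c, _, rfl, ec, d, _, rfl, ed, e, _, rfl, ee, f, _, rfl, ef,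
      g, _, rfl, eg, rfl⟩ := hl
    exact case_two ea eb ec ed ee ef eg H
  · simp only [List.map_eq_cons_iff, List.map_eq_nil_iff] at hl
    obtain ⟨a, _, rfl, ea, b, _, rfl, eb, c, _, rfl, ec, d, _, rfl, ed, e, _, rfl, ee, f, _, rfl, ef,
      g, _, rfl, eg, rfl⟩ := hl
    exact case_three ea eb ec ed ee ef eg H
  · simp only [List.map_eq_cons_iff, List.map_eq_nil_iff] at hl
    obtain ⟨a, _, rfl, ea, b, _, rfl, eb, c, _, rfl, ec, d, _, rfl, ed, e, _, rfl, ee, f, _, rfl, ef,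
      g, _, rfl, eg, h, _, rfl, eh, rfl⟩ := hl
    exact case_four ea eb ec ed ee ef eg eh H
  · simp only [List.map_eq_cons_iff, List.map_eq_nil_iff] at hl
    obtain ⟨a, _, rfl, ea, b, _, rfl, eb, c, _, rfl, ec, d, _, rfl, ed, e, _, rfl, ee, f, _, rfl, ef,
      g, _, rfl, eg, rfl⟩ := hl
    exact case_five ea eb ec ed ee ef eg H
  · simp only [List.map_eq_cons_iff, List.map_eq_nil_iff] at hl
    obtain ⟨a, _, rfl, ea, b, _, rfl, eb, c, _, rfl, ec, d, _, rfl, ed, e, _, rfl, ee, f, _, rfl, ef,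
      g, _, rfl, eg, rfl⟩ := hl
    exact case_six ea eb ec ed ee ef eg H

open scoped Classical in
/-- The numerical data are contradictory. -/
theorem Sys.contradiction {I : Type*} [Fintype I] [DecidableEq I] (Y : Sys I) : False := by
  set sg : I → ℤ := fun i => if normed (Y.κ i) then 1 else -1 with hsg
  set κ' : I → Fin 4 → ℤ := fun i k => sg i * Y.κ i k with hκ'
  set S : Finset I := Finset.univ.filter fun i => i ≠ Y.o ∧ Y.κ i ≠ 0 with hS
  have hsq : ∀ i, sg i * sg i = 1 := fun i => by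
    rw [hsg]; by_cases h : normed (Y.κ i) <;> simp [h]
  have hsum : ∀ {R : Type} [AddCommMonoid R] (F : I → R), (∀ i, Y.κ i = 0 → F i = 0) →
      ∑ i, F i = F Y.o + ∑ i ∈ S, F i := by
    intro R _ F hF
    rw [← Finset.add_sum_erase _ _ (Finset.mem_univ Y.o)]
    congr 1
    refine (Finset.sum_subset (fun i hi => ?_) fun i hi hn => hF i ?_).symm
    · exact Finset.mem_erase.2 ⟨(Finset.mem_filter.1 hi).2.1, Finset.mem_univ _⟩
    · by_contra h
      exact hn (Finset.mem_filter.2 ⟨Finset.mem_univ _, (Finset.mem_erase.1 hi).1, h⟩)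
  have hgram : ∀ k l, gram k l = ∑ i ∈ S, κ' i k * κ' i l := by
    intro k l
    have h := Y.orth k l
    rw [hsum (fun i => Y.κ i k * Y.κ i l) fun i hi => by simp [hi]] at h
    have e : ∑ i ∈ S, κ' i k * κ' i l = ∑ i ∈ S, Y.κ i k * Y.κ i l :=
      Finset.sum_congr rfl fun i _ => by
        rw [hκ', show sg i * Y.κ i k * (sg i * Y.κ i l) = sg i * sg i * (Y.κ i k * Y.κ i l) by ring,
          hsq, one_mul]
    omega
  have hdiag : ∀ k, gram k k ≤ 4 := by decide
  have hsg' : ∀ i, sg i = 1 ∨ sg i = -1 := fun i => by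
    rw [hsg]; by_cases h : normed (Y.κ i) <;> simp [h]
  -- a column with an entry `±2` would be alone in that coordinate
  have hent : ∀ i ∈ S, ∀ k, Y.κ i k = 0 ∨ Y.κ i k = 1 ∨ Y.κ i k = -1 := by
    intro i hi k
    have hkk : ∀ j ∈ S, κ' j k * κ' j k = Y.κ j k * Y.κ j k := fun j _ => by
      rw [hκ', show sg j * Y.κ j k * (sg j * Y.κ j k) = sg j * sg j * (Y.κ j k * Y.κ j k) by ring,
        hsq, one_mul]
    have hg := hgram k k
    rw [Finset.sum_congr rfl hkk, ← Finset.add_sum_erase _ _ hi] at hg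
    have hk := hdiag k
    have hnn : 0 ≤ ∑ j ∈ S.erase i, Y.κ j k * Y.κ j k :=
      Finset.sum_nonneg fun j _ => mul_self_nonneg _
    have h3 : -3 < Y.κ i k ∧ Y.κ i k < 3 := ⟨by nlinarith, by nlinarith⟩
    by_contra h
    have h4 : Y.κ i k * Y.κ i k = 4 := by
      rcases (show Y.κ i k = 2 ∨ Y.κ i k = -2 by omega) with e | e <;> rw [e] <;> norm_num
    have hzero : ∀ j ∈ S.erase i, Y.κ j k = 0 := fun j hj => mul_self_eq_zero.1
      ((Finset.sum_eq_zero_iff_of_nonneg fun j _ => mul_self_nonneg (Y.κ j k)).1 (by omega) j hj)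
    have hk4 : gram k k = 4 := by omega
    have hko : (![1, 0, 1, 0] : Fin 4 → ℤ) k = 0 :=
      (by decide : ∀ k : Fin 4, gram k k = 4 → (![1, 0, 1, 0] : Fin 4 → ℤ) k = 0) k hk4
    have h5 := Y.van_d k
    rw [hsum _ fun j hj => by simp [hj], ← Finset.add_sum_erase _ _ hi,
      Finset.sum_eq_zero fun j hj => by rw [hzero j hj, zero_mul], Y.κ_o, hko, zero_mul, zero_add,
      add_zero] at h5
    rcases mul_eq_zero.1 h5 with h6 | h6
    · rw [h6] at h4; simp at h4
    · have := Y.d_two i (Finset.mem_filter.1 hi).2.1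
      omega
  have hvecs : ∀ i ∈ S, κ' i ∈ vecs 4 := by
    intro i hi
    have hneg : ∀ c ∈ allVecs 4, c ≠ 0 → normed c = false → normed (fun k => (-1) * c k) = true := by
      decide +kernel
    refine List.mem_filter.2 ⟨mem_allVecs 4 _ fun k => ?_, ?_⟩
    · rcases hsg' i with e | e <;> rcases hent i hi k with h | h | h <;> simp [hκ', e, h]
    · rw [hκ', hsg]
      by_cases h : normed (Y.κ i)
      · simpa [h] using h
      · have := hneg _ (mem_allVecs 4 _ (hent i hi)) (Finset.mem_filter.1 hi).2.2 (by simpa using h)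
        simpa [h] using this
  have hcard : S.card ≤ 14 := by
    have h1 : ∀ i ∈ S, (1 : ℤ) ≤ ∑ k, κ' i k * κ' i k := by
      intro i hi
      obtain ⟨k, hk⟩ : ∃ k, Y.κ i k ≠ 0 := by
        by_contra h
        push Not at h
        exact (Finset.mem_filter.1 hi).2.2 (funext h)
      have : κ' i k ≠ 0 := mul_ne_zero (fun h0 => by simpa [h0] using hsq i) hk
      exact le_trans (by nlinarith [mul_self_pos.2 this])
        (Finset.single_le_sum (f := fun k => κ' i k * κ' i k) (fun _ _ => mul_self_nonneg _)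
          (Finset.mem_univ k))
    have h2 := Finset.sum_le_sum h1
    rw [Finset.sum_comm, Finset.sum_const, nsmul_eq_mul, mul_one] at h2
    simp only [← hgram] at h2
    have h3 : ∑ k, gram k k ≤ 14 := by decide
    omega
  obtain ⟨L, hL, hmap⟩ := search_sound keyOK_four κ' 14 gram (3 ^ 4) S hvecs hgram
    (fun i hi => key_le _ (hvecs i hi)) hcard
  rw [search_gram] at hL
  obtain ⟨m, hm, hmem, hmκ⟩ := exists_list S κ' L hmap
  have hSm : ∀ {R : Type} [AddCommMonoid R] (F : I → R), ∑ i ∈ S, F i = (m.map F).sum := by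
    intro R _ F
    rw [← List.sum_toFinset _ hm]
    exact Finset.sum_congr (Finset.ext fun i => by rw [List.mem_toFinset, hmem]) fun _ _ => rfl
  set col : I → Col := fun i => ⟨κ' i, sg i * Y.d i, sg i * Y.t i⟩ with hcol
  have hval : ∀ (y : I → ℤ) i k, κ' i k * (sg i * y i) = Y.κ i k * y i := fun y i k => by
    rw [hκ', show sg i * Y.κ i k * (sg i * y i) = sg i * sg i * (Y.κ i k * y i) by ring, hsq,
      one_mul]
  have hscale : ∀ (s : ℤ) (c : Fin 4 → ℤ), Ee (fun k => s * c k) = s * Ee c ∧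
      Ef (fun k => s * c k) = s * Ef c ∧ Et (fun k => s * c k) = s * Et c ∧
      Eft (fun k => s * c k) = s * Eft c := fun s c => by
    simp only [Ee, Ef, Et, Eft]; refine ⟨?_, ?_, ?_, ?_⟩ <;> ring
  have hlin : ∀ P ∈ lins, ∀ i, P (κ' i) = P (Y.κ i) ∧ (Y.κ i = 0 → P (Y.κ i) = 0) := by
    intro P hP i
    obtain ⟨s1, s2, s3, s4⟩ := hscale (sg i) (Y.κ i)
    simp only [lins, List.mem_cons, List.not_mem_nil, or_false] at hP
    rcases hP with rfl | rfl <;> refine ⟨?_, fun h => by simp [h, Ee]⟩ <;>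
      simp only [hκ', s1, s2, s4] <;> rw [mul_mul_mul_comm, hsq, one_mul]
  have hcub : ∀ P ∈ cubs, ∀ i, P (κ' i) = sg i * P (Y.κ i) ∧ (Y.κ i = 0 → P (Y.κ i) = 0) := by
    intro P hP i
    obtain ⟨s1, s2, s3, s4⟩ := hscale (sg i) (Y.κ i)
    simp only [cubs, List.mem_cons, List.not_mem_nil, or_false] at hP
    rcases hP with rfl | rfl <;> refine ⟨?_, fun h => by simp [h, Ee]⟩ <;>
      simp only [hκ', s1, s2] <;> rcases hsg' i with e | e <;> rw [e] <;> ring
  have hG : Global Y.N (m.map col) := by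
    refine ⟨fun C hC => ?_, ?_, Y.N_ne, fun k => ?_, fun k => ?_, fun P hP' => ?_,
      fun P hP' => ?_⟩
    · obtain ⟨i, hi, rfl⟩ := List.mem_map.1 hC
      have hio := (Finset.mem_filter.1 ((hmem i).1 hi)).2.1
      have h2 := Y.d_two i hio
      have hle := Y.t_le i
      obtain ⟨s1, s2, s3, s4⟩ := hscale (sg i) (Y.κ i)
      have hct := dvd_mul_of_dvd_right (Y.cong_t i) (sg i)
      have hcd := dvd_mul_of_dvd_right (Y.cong_d i) (sg i)
      refine ⟨?_, ?_, ?_, ?_, ?_⟩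
      · show 2 ≤ sg i * Y.d i ∨ sg i * Y.d i ≤ -2
        rcases hsg' i with e | e <;> rw [e] <;> omega
      · show sg i * Y.d i ∣ Y.N
        rcases hsg' i with e | e <;> rw [e] <;> simp [Y.d_dvd i]
      · show (-(sg i * Y.d i) ≤ sg i * Y.t i ∧ sg i * Y.t i ≤ sg i * Y.d i) ∨
          (sg i * Y.d i ≤ sg i * Y.t i ∧ sg i * Y.t i ≤ -(sg i * Y.d i))
        rcases hsg' i with e | e <;> rw [e] <;> omega
      · show (3 : ℤ) ∣ sg i * Y.t i - Et (κ' i)
        rw [hκ', s3, ← mul_sub]; exact hct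
      · show (9 : ℤ) ∣ sg i * Y.d i + 4 * Ee (κ' i) + 4 * Ef (κ' i)
        rw [hκ', s1, s2, show sg i * Y.d i + 4 * (sg i * Ee (Y.κ i)) + 4 * (sg i * Ef (Y.κ i)) =
          sg i * (Y.d i + 4 * Ee (Y.κ i) + 4 * Ef (Y.κ i)) by ring]
        exact hcd
    · have h1 : Y.d Y.o * Y.d Y.o + ∑ i ∈ S, Y.d i * Y.d i ≤ Y.N := by
        rw [← Y.sq, ← Finset.add_sum_erase _ _ (Finset.mem_univ Y.o)]
        refine add_le_add le_rfl (Finset.sum_le_sum_of_subset_of_nonneg (fun i hi => ?_)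
          fun i _ _ => mul_self_nonneg _)
        exact Finset.mem_erase.2 ⟨(Finset.mem_filter.1 hi).2.1, Finset.mem_univ _⟩
      rw [Y.d_o, one_mul, hSm] at h1
      refine le_of_eq_of_le ?_ h1
      rw [List.map_map]
      refine congrArg (fun l => (1 : ℤ) + List.sum l) (List.map_congr_left fun i _ => ?_)
      show sg i * Y.d i * (sg i * Y.d i) = _
      rw [mul_mul_mul_comm, hsq, one_mul]
    · have h := Y.van_d k
      rw [hsum _ fun i hi => by simp [hi], hSm, Y.κ_o, Y.d_o, mul_one] at h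
      refine Eq.trans ?_ h
      rw [List.map_map]
      exact congrArg (fun l => _ + List.sum l) (List.map_congr_left fun i _ => hval Y.d i k)
    · have h := Y.van_t k
      rw [hsum _ fun i hi => by simp [hi], hSm, Y.κ_o, Y.t_o, mul_one] at h
      refine Eq.trans ?_ h
      rw [List.map_map]
      exact congrArg (fun l => _ + List.sum l) (List.map_congr_left fun i _ => hval Y.t i k)
    · have h := Y.eq_t P hP'
      rw [hsum _ fun i hi => by simp [(hlin P hP' i).2 hi], hSm, Y.κ_o, Y.t_o, Y.d_o] at h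
      simp only [mul_one, Int.cast_one, div_one] at h
      refine Eq.trans ?_ h
      rw [List.map_map]
      refine congrArg (fun l => _ + List.sum l) (List.map_congr_left fun i _ => ?_)
      show ((P (κ' i) * (sg i * Y.t i) : ℤ) : ℚ) / ((sg i * Y.d i : ℤ) : ℚ) = _
      have hne : sg i ≠ 0 := fun h0 => by simpa [h0] using hsq i
      have : (sg i : ℚ) ≠ 0 := by exact_mod_cast hne
      rw [(hlin P hP' i).1]
      push_cast
      rw [mul_left_comm, mul_div_mul_left _ _ this]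
    · have h := Y.eq_cub P hP'
      rw [hsum _ fun i hi => by simp [(hcub P hP' i).2 hi], hSm, Y.κ_o, Y.d_o] at h
      simp only [Int.cast_one, div_one] at h
      refine Eq.trans ?_ h
      rw [List.map_map]
      refine congrArg (fun l => (Y.N : ℚ) * (_ + List.sum l)) (List.map_congr_left fun i _ => ?_)
      show ((P (κ' i) : ℤ) : ℚ) / ((sg i * Y.d i : ℤ) : ℚ) = _
      have hne : sg i ≠ 0 := fun h0 => by simpa [h0] using hsq i
      have : (sg i : ℚ) ≠ 0 := by exact_mod_cast hne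
      rw [(hcub P hP' i).1]
      push_cast
      rw [mul_div_mul_left _ _ this]
  have hLc : (m.map col).map Col.c = L := by rw [List.map_map]; exact hmκ
  exact false_of_global (hLc ▸ hL) hG

end Cfsg.Agent.ThreeTI.Wreath
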