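import Cfsg.Agent.Lib.ThreeTI.Wreath.Model
import Cfsg.Agent.Lib.ThreeTI.Wreath.Algebra
import Cfsg.Agent.Lib.ThreeTI.Triangles
import Cfsg.Agent.Lib.Char.PermChar
import Cfsg.Agent.Lib.Small.SelfCentral
import Cfsg.Agent.Lib.Small.Order720

/-!
No simple group has a TI set of elements with nontrivial 3-part with normaliser `S₃ ≀ 2`.
-/

set_option autoImplicit false
set_option maxRecDepth 20000
set_option linter.style.haveILetI false
set_option linter.unusedSectionVars false

namespace Cfsg.Agent.ThreeTI.Wreath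

open Cfsg Cfsg.Agent.Char Cfsg.Agent.LocalTI
open scoped ComplexConjugate

universe u

theorem dset_of_cube : ∀ h : Wr, h * h * h = 1 → h ≠ 1 → Dset h := by decide +kernel

/-- The four generating virtual characters, on classes. -/
def vals : Fin 4 → Fin 9 → ℤ :=
  ![one9 + lA + dd - x1, lB + lC + dd - x1 * lB, one9 + lB + dd - x2, lA + lC + dd - x2 * lA]

theorem vals_good (k : Fin 4) : Good (vals k) := by
  fin_cases k
  exacts [((good_one.add good_lA).add good_dd).sub good_x1,
    ((good_lB.add good_lC).add good_dd).sub (good_x1.mul good_lB),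
    ((good_one.add good_lB).add good_dd).sub good_x2,
    ((good_lA.add good_lC).add good_dd).sub (good_x2.mul good_lA)]

theorem vec_vanish (k : Fin 4) : Vanish Dset (fn (vals k)) :=
  fn_vanish (vals_good k) (by revert k; decide +kernel)

/-- The virtual character detecting the residue at `t₁`. -/
def pT : Fin 9 → ℤ := one9 + lA - (lB + lC)

/-- The virtual character detecting the residue at `t₂`. -/
def pU : Fin 9 → ℤ := one9 + lB - (lA + lC)

/-- The virtual character detecting the residue of the degree. -/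
def pD : Fin 9 → ℤ := one9 + lA + lB + lC + dd + dd

theorem pT_good : Good pT := (good_one.add good_lA).sub (good_lB.add good_lC)

theorem pU_good : Good pU := (good_one.add good_lB).sub (good_lA.add good_lC)

theorem pD_good : Good pD :=
  ((((good_one.add good_lA).add good_lB).add good_lC).add good_dd).add good_dd

theorem sum_vec : ∀ k, ∑ h, fn (vals k) h = 72 * (![1, 0, 1, 0] : Fin 4 → ℤ) k := by decide +kernel

theorem sum_vec_mul : ∀ k l, ∑ h, fn (vals k) h * fn (vals l) h =
    72 * ((![1, 0, 1, 0] : Fin 4 → ℤ) k * (![1, 0, 1, 0] : Fin 4 → ℤ) l + gram k l) := by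
  decide +kernel

variable {G : Type u} [Group G] [Finite G] {ι : Wr →* G}

/-- The centraliser orders of the representatives in `D`. -/
theorem card_centralizer (E : Emb ι Dset) {h : Wr} (hh : Dset h) :
    Nat.card (Subgroup.centralizer ({ι h} : Set G)) =
      (Finset.univ.filter fun x : Wr => x * h * x⁻¹ = h).card := by
  classical
  haveI := Fintype.ofFinite G
  rw [Nat.card_eq_fintype_card]
  convert E.fibre hh hh using 1
  · rw [← Fintype.card_coe]
    refine Fintype.card_congr (Equiv.subtypeEquivRight fun g => ?_)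
    rw [Subgroup.mem_centralizer_singleton_iff]
    simp [mul_inv_eq_iff_eq_mul]
  · congr 1
    ext x
    simp

theorem isConj_of_cl {a b : Wr} (h : cl a = cl b) : IsConj a b := by
  obtain ⟨k, hk⟩ := conj_rep a
  obtain ⟨l, hl⟩ := conj_rep b
  have e1 : IsConj (rep (cl a)) a := isConj_iff.2 ⟨k, hk⟩
  have e2 : IsConj (rep (cl a)) b := h ▸ isConj_iff.2 ⟨l, hl⟩
  exact e1.symm.trans e2

theorem cl_of_isConj {a b : Wr} (h : IsConj a b) : cl a = cl b := by
  obtain ⟨k, rfl⟩ := isConj_iff.1 h
  exact (cl_conj a k).symm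

theorem cube_image {h : Wr} (e : h * h * h = 1) {b : G} (hb : IsConj (ι h) b) : b ^ 3 = 1 := by
  obtain ⟨c, rfl⟩ := isConj_iff.1 hb
  rw [conj_pow, ← map_pow, pow_three', e, map_one, mul_one, mul_inv_cancel]

/-- The classes of `e` and of `f` have no members whose product is an involution. -/
theorem no_invol (E : Emb ι Dset) {h₁ h₂ : Wr} (hd : Dset h₁⁻¹) (hd' : Dset h₂)
    (e₁ : h₁ * h₁ * h₁ = 1) (e₂ : h₂ * h₂ * h₂ = 1) (hne : cl h₁⁻¹ ≠ cl h₂) {y : G}
    (hy : y * y = 1) (a : G) (ha : IsConj (ι h₁) a) : ¬ IsConj (ι h₂) (a⁻¹ * y) := by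
  intro hb
  have h3 := isConj_of_prod_invol (cube_image e₁ ha) (cube_image e₂ hb)
    (by rw [mul_inv_cancel_left, pow_two, hy])
  obtain ⟨c, hc⟩ := isConj_iff.1 ha
  have h4 : IsConj (ι h₁⁻¹) a⁻¹ := isConj_iff.2 ⟨c, by rw [map_inv, ← hc]; group⟩
  exact hne (cl_of_isConj (E.isConj hd hd' ((h4.trans h3).trans hb.symm)))

/-- Relations coming from the triangle group `(2, 3, 6)`. -/
theorem no_six (E : Emb ι Dset) {h₁ x : Wr} (hd : Dset h₁) (e₁ : h₁ * h₁ * h₁ = 1)
    (hx : x ^ 6 = 1) (hd2 : Dset (x ^ 2)⁻¹) (hd3 : Dset (x ^ 2)) (hne : cl h₁ ≠ cl (x ^ 2)⁻¹)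
    {y : G} (hy : y * y = 1) (hno : ∀ k : Wr, ¬ IsConj y (ι ((k * h₁ * k⁻¹)⁻¹ * x))) (a : G)
    (ha : IsConj (ι h₁) a) : ¬ IsConj y (a⁻¹ * ι x) := by
  intro hb
  have ha3 := cube_image e₁ ha
  have hs : (a⁻¹ * ι x) ^ 2 = 1 := by
    obtain ⟨c, hc⟩ := isConj_iff.1 hb
    rw [← hc, conj_pow, pow_two, hy, mul_one, mul_inv_cancel]
  rcases isConj_or_commute ha3 (by rw [← map_pow, hx, map_one]) hs with hc | ⟨q, q1, q3, qx, qa⟩
  · refine hne (cl_of_isConj (E.isConj hd hd2 ?_))
    rw [map_inv, map_pow]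
    exact ha.trans hc
  · rw [← map_pow] at qx
    obtain ⟨r, rfl⟩ := E.mem_range_of_commute hd3 qx.eq
    have hr : Dset r := dset_of_cube r (E.inj (by rw [← pow_three', map_pow, q3, map_one]))
      fun h => q1 (by rw [h, map_one])
    obtain ⟨s, rfl⟩ := E.mem_range_of_commute hr qa.eq.symm
    have hsd : Dset s := by
      refine dset_of_cube s (E.inj (by rw [← pow_three', map_pow, ha3, map_one])) fun h => ?_
      rw [h, map_one, isConj_one_left] at ha
      exact absurd (E.inj (ha.trans (map_one ι).symm)) (fun h1 => by simp [h1, Dset] at hd)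
    obtain ⟨k, hk⟩ := isConj_iff.1 (E.isConj hd hsd ha)
    refine hno k ?_
    rw [hk, map_mul, map_inv]
    exact hb

/-- A structure constant of three classes of elements of order 3 is computed in the model. -/
theorem count_three (E : Emb ι Dset) {c d x : Wr} (hx : Dset x) (hx' : Dset x⁻¹) (hd : Dset d)
    (hc : Dset c) (ec : c * c * c = 1) (ed : d * d * d = 1) (ex : x * x * x = 1)
    (hne : cl d ≠ cl x⁻¹) :
    Nat.card {a : G // IsConj (ι c) a ∧ IsConj (ι d) (a⁻¹ * ι x)} =
      (Finset.univ.filter fun h : Wr => cl h = cl c ∧ cl (h⁻¹ * x) = cl d).card := by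
  classical
  rw [← Fintype.card_coe, ← Nat.card_eq_fintype_card]
  symm
  refine Nat.card_eq_of_bijective (fun h => ⟨ι h.1, ?_, ?_⟩) ⟨fun h h' e => ?_, fun a => ?_⟩
  · exact ι.map_isConj (isConj_of_cl (Finset.mem_filter.1 h.2).2.1.symm)
  · rw [← map_inv, ← map_mul]
    exact ι.map_isConj (isConj_of_cl (Finset.mem_filter.1 h.2).2.2.symm)
  · exact Subtype.ext (E.inj (congrArg Subtype.val e))
  obtain ⟨a, hac, had⟩ := a
  have hb3 := cube_image ed had
  have hxi : (ι x)⁻¹ ^ 3 = 1 := by rw [inv_pow, ← map_pow, pow_three', ex, map_one, inv_one]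
  have hprod : (a⁻¹ * ι x * (ι x)⁻¹) ^ 3 = 1 := by
    rw [mul_inv_cancel_right, inv_pow, cube_image ec hac, inv_one]
  rcases isConj_or_commute_three hb3 hxi hprod with h | ⟨q, q1, q3, qb, qx⟩
  · exfalso
    refine hne (cl_of_isConj (E.isConj hd hx' ?_))
    rw [map_inv]
    exact had.trans h
  · rw [← map_inv] at qx
    obtain ⟨r, rfl⟩ := E.mem_range_of_commute hx' qx.eq
    have hr : Dset r := dset_of_cube r (E.inj (by rw [← pow_three', map_pow, q3, map_one]))
      fun h => q1 (by rw [h, map_one])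
    obtain ⟨s, hs⟩ := E.mem_range_of_commute hr qb.eq.symm
    have ha : a = ι (x * s⁻¹) := by rw [map_mul, map_inv, hs]; group
    subst ha
    have h1 : Dset (x * s⁻¹) := dset_of_cube _
      (E.inj (by rw [← pow_three', map_pow, cube_image ec hac, map_one]))
      fun h => by
        rw [h, map_one, isConj_one_left] at hac
        exact absurd (E.inj (hac.trans (map_one ι).symm)) (fun h1 => by simp [h1, Dset] at hc)
    have h2 : Dset ((x * s⁻¹)⁻¹ * x) := by
      rw [← map_inv, ← map_mul] at had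
      refine dset_of_cube _ (E.inj ?_) fun h => ?_
      · rw [← pow_three', map_pow, cube_image ed had, map_one]
      · rw [h, map_one, isConj_one_left] at had
        exact absurd (E.inj (had.trans (map_one ι).symm)) (fun h1 => by simp [h1, Dset] at hd)
    refine ⟨⟨x * s⁻¹, Finset.mem_filter.2 ⟨Finset.mem_univ _, ?_, ?_⟩⟩, rfl⟩
    · exact (cl_of_isConj (E.isConj hc h1 hac)).symm
    · rw [← map_inv, ← map_mul] at had
      exact (cl_of_isConj (E.isConj hd h2 had)).symm

section System

variable [Fintype G] (E : Emb ι Dset)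

/-- The coordinates of a character. -/
noncomputable def col (_E : Emb ι Dset) (χ : IrrCharacter G) (k : Fin 4) : ℤ :=
  coef (vec_vanish k) ι χ

/-- The degree. -/
noncomputable def deg (χ : IrrCharacter G) : ℤ := (Cfsg.charDegree (χ : G → ℂ) : ℤ)

/-- The value at `t₁`. -/
noncomputable def valT (χ : IrrCharacter G) : ℤ :=
  3 * coef (fn_true pT_good) ι χ - 2 * Et (col E χ)

/-- The value at `t₂`. -/
noncomputable def valU (χ : IrrCharacter G) : ℤ :=
  3 * coef (fn_true pU_good) ι χ - 2 * Eft (col E χ)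

theorem vals_table : ∀ (k : Fin 4) (i : Fin 9), vals k i * size i =
    (![![0, 0, 0, 0, 0, 12, 36, 24, 0], ![0, 0, 0, 0, 0, 12, -36, 24, 0],
      ![0, 0, 0, 0, 0, 24, 0, 12, 36], ![0, 0, 0, 0, 0, 24, 0, 12, -36]] :
      Fin 4 → Fin 9 → ℤ) k i := by decide +kernel

theorem pT_table : ∀ i : Fin 9,
    pT i * size i = (![0, 0, 0, 24, 0, 0, 48, 0, 0] : Fin 9 → ℤ) i := by decide +kernel

theorem pU_table : ∀ i : Fin 9,
    pU i * size i = (![0, 0, 0, 0, 24, 0, 0, 0, 48] : Fin 9 → ℤ) i := by decide +kernel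

theorem pD_table : ∀ i : Fin 9,
    pD i * size i = (![8, 0, 0, 0, 0, 32, 0, 32, 0] : Fin 9 → ℤ) i := by decide +kernel

/-- The values of a character are given by its coordinates. -/
theorem values (χ : IrrCharacter G) :
    value ι χ 5 = Ee (col E χ) ∧ value ι χ 7 = Ef (col E χ) ∧
    value ι χ 6 = Et (col E χ) ∧ value ι χ 8 = Eft (col E χ) ∧
    value ι χ 3 = valT E χ ∧ value ι χ 4 = valU E χ := by
  have u0 := coef_fn (vec_vanish 0) ι χ
  have u1 := coef_fn (vec_vanish 1) ι χ
  have u2 := coef_fn (vec_vanish 2) ι χ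
  have u3 := coef_fn (vec_vanish 3) ι χ
  have t := coef_fn (fn_true pT_good) ι χ
  have u := coef_fn (fn_true pU_good) ι χ
  have c0 : col E χ 0 = coef (vec_vanish 0) ι χ := rfl
  have c1 : col E χ 1 = coef (vec_vanish 1) ι χ := rfl
  have c2 : col E χ 2 = coef (vec_vanish 2) ι χ := rfl
  have c3 : col E χ 3 = coef (vec_vanish 3) ι χ := rfl
  simp only [valT, valU, Ee, Ef, Et, Eft, c0, c1, c2, c3]
  generalize coef (vec_vanish 0) ι χ = n0, coef (vec_vanish 1) ι χ = n1,
    coef (vec_vanish 2) ι χ = n2, coef (vec_vanish 3) ι χ = n3 at *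
  generalize coef (fn_true pT_good) ι χ = n5, coef (fn_true pU_good) ι χ = n6 at *
  simp [vals_table, pT_table, pU_table, Fin.sum_univ_succ] at u0 u1 u2 u3 t u
  push_cast
  refine ⟨?_, ?_, ?_, ?_, ?_, ?_⟩ <;> grind

theorem value_degree (χ : IrrCharacter G) : value ι χ 0 = (deg χ : ℂ) := by
  simp only [value, deg, show rep 0 = 1 from rfl, map_one]
  exact_mod_cast CharX.irr_deg χ

theorem cong_deg (χ : IrrCharacter G) :
    (9 : ℤ) ∣ deg χ + 4 * Ee (col E χ) + 4 * Ef (col E χ) := by
  have h := coef_fn (fn_true pD_good) ι χ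
  obtain ⟨v5, v7, -⟩ := values E χ
  refine ⟨coef (fn_true pD_good) ι χ, ?_⟩
  generalize coef (fn_true pD_good) ι χ = n at *
  simp [pD_table, Fin.sum_univ_succ, v5, v7, value_degree χ] at h
  have : ((deg χ + 4 * Ee (col E χ) + 4 * Ef (col E χ) : ℤ) : ℂ) = ((9 * n : ℤ) : ℂ) := by
    push_cast; grind
  exact_mod_cast this

theorem real_value (z : Wr) (χ : IrrCharacter G) :
    conj ((χ : G → ℂ) (ι z)) = (χ : G → ℂ) (ι z) := by
  obtain ⟨k, hk⟩ := real_class z
  exact conj_value ι χ (isConj_iff.2 ⟨k, hk⟩)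

theorem col_gram (k l : Fin 4) : (∑ χ, col E χ k * col E χ l) =
    (![1, 0, 1, 0] : Fin 4 → ℤ) k * (![1, 0, 1, 0] : Fin 4 → ℤ) l + gram k l := by
  have h := orth E (vec_vanish k) (vec_vanish l)
  rw [show Fintype.card Wr = 72 by decide +kernel, sum_vec_mul] at h
  change (∑ χ, col E χ k * col E χ l) * (72 : ℤ) = _ at h
  linarith

include E in
/-- The two reflection classes do not fuse. -/
theorem not_fused : ¬ IsConj (ι (rep 3)) (ι (rep 4)) := by
  intro hc
  have h3 : ∀ χ : IrrCharacter G, (3 : ℤ) ∣ Et (col E χ) - Eft (col E χ) := by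
    intro χ
    obtain ⟨-, -, -, -, v3, v4⟩ := values E χ
    obtain ⟨c, hc'⟩ := isConj_iff.1 hc
    have e : ((valT E χ : ℤ) : ℂ) = ((valU E χ : ℤ) : ℂ) := by
      rw [← v3, ← v4, value, value, ← hc',
        IsCharacter.isClassFunction (IsIrrCharacter.isCharacter χ.2)]
    have e' : valT E χ = valU E χ := by exact_mod_cast e
    simp only [valT, valU] at e'
    omega
  have h9 : (9 : ℤ) ∣ ∑ χ, (Et (col E χ) - Eft (col E χ)) * (Et (col E χ) - Eft (col E χ)) :=
    Finset.dvd_sum fun χ _ => by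
      obtain ⟨a, ha⟩ := h3 χ
      exact ⟨a * a, by rw [ha]; ring⟩
  have hval : ∑ χ, (Et (col E χ) - Eft (col E χ)) * (Et (col E χ) - Eft (col E χ)) = 12 := by
    have e : ∀ c : Fin 4 → ℤ, (Et c - Eft c) * (Et c - Eft c) =
        c 0 * c 0 + c 1 * c 1 + c 2 * c 2 + c 3 * c 3 - 2 * (c 0 * c 1) - 2 * (c 0 * c 2) +
          2 * (c 0 * c 3) + 2 * (c 1 * c 2) - 2 * (c 1 * c 3) - 2 * (c 2 * c 3) := fun c => by
      simp only [Et, Eft]; ring
    simp only [e, Finset.sum_add_distrib, Finset.sum_sub_distrib, ← Finset.mul_sum, col_gram E]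
    decide
  rw [hval] at h9
  omega

/-- The weighted sum that vanishes, over the rationals. -/
theorem rat_eq (P : IrrCharacter G → ℤ) {v : ℚ} {m : ℚ}
    (h : (m : ℂ) * ∑ χ : IrrCharacter G, (P χ : ℂ) / (χ : G → ℂ) 1 = (v : ℂ)) :
    m * ∑ χ : IrrCharacter G, (P χ : ℚ) / deg χ = v := by
  have e : ((m * ∑ χ : IrrCharacter G, (P χ : ℚ) / deg χ : ℚ) : ℂ) = ((v : ℚ) : ℂ) := by
    rw [← h]
    push_cast
    congr 1
    refine Finset.sum_congr rfl fun χ _ => ?_
    rw [CharX.irr_deg χ]
    simp [deg]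
  exact Rat.cast_injective e

theorem invol_t : rep 3 * rep 3 = 1 := by decide +kernel

theorem eq_lins : ∀ P ∈ lins,
    ∑ χ : IrrCharacter G, ((P (col E χ) * valT E χ : ℤ) : ℚ) / deg χ = 0 := by
  intro P hP
  rw [← one_mul (Finset.sum _ _)]
  refine rat_eq _ ?_
  rw [Rat.cast_one, one_mul, Rat.cast_zero]
  have hy : ι (rep 3) * ι (rep 3) = 1 := by rw [← map_mul, invol_t, map_one]
  simp only [lins, List.mem_cons, List.not_mem_nil, or_false] at hP
  rcases hP with rfl | rfl
  · rw [← count_zero (ι (rep 5)) (ι (rep 7)) (ι (rep 3)) (no_invol E (by decide +kernel)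
      (by decide +kernel) (by decide +kernel) (by decide +kernel) (by decide +kernel) hy)]
    refine Finset.sum_congr rfl fun χ _ => ?_
    rw [real_value, show (χ : G → ℂ) (ι (rep 5)) = _ from (values E χ).1,
      show (χ : G → ℂ) (ι (rep 7)) = _ from (values E χ).2.1,
      show (χ : G → ℂ) (ι (rep 3)) = _ from (values E χ).2.2.2.2.1]
    push_cast; ring
  · rw [← count_zero (ι (rep 5)) (ι (rep 3)) (ι (rep 8)) (no_six E (by decide +kernel)
      (by decide +kernel) (by decide +kernel) (by decide +kernel) (by decide +kernel)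
      (by decide +kernel) hy (fun k hk => ?_))]
    · refine Finset.sum_congr rfl fun χ _ => ?_
      rw [real_value, show (χ : G → ℂ) (ι (rep 5)) = _ from (values E χ).1,
        show (χ : G → ℂ) (ι (rep 8)) = _ from (values E χ).2.2.2.1,
        show (χ : G → ℂ) (ι (rep 3)) = _ from (values E χ).2.2.2.2.1]
      push_cast; ring
    · have hcases : ∀ k : Wr, ((k * rep 5 * k⁻¹)⁻¹ * rep 8) * ((k * rep 5 * k⁻¹)⁻¹ * rep 8) = 1 →
          cl ((k * rep 5 * k⁻¹)⁻¹ * rep 8) = 4 := by decide +kernel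
      have hs : ((k * rep 5 * k⁻¹)⁻¹ * rep 8) * ((k * rep 5 * k⁻¹)⁻¹ * rep 8) = 1 := by
        refine E.inj ?_
        obtain ⟨c, hc⟩ := isConj_iff.1 hk
        rw [map_mul, map_one, ← hc, show c * ι (rep 3) * c⁻¹ * (c * ι (rep 3) * c⁻¹) =
          c * (ι (rep 3) * ι (rep 3)) * c⁻¹ by group, hy, mul_one, mul_inv_cancel]
      have h4 : cl ((k * rep 5 * k⁻¹)⁻¹ * rep 8) = cl (rep 4) :=
        (hcases k hs).trans (by decide +kernel)
      exact not_fused E (hk.trans (ι.map_isConj (isConj_of_cl h4)))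

theorem eq_cubs : ∀ P ∈ cubs,
    (Nat.card G : ℚ) * ∑ χ : IrrCharacter G, (P (col E χ) : ℚ) / deg χ = 648 := by
  intro P hP
  refine rat_eq _ ?_
  simp only [cubs, List.mem_cons, List.not_mem_nil, or_false] at hP
  have cen : ∀ i : Fin 9, i = 5 ∨ i = 7 →
      (Nat.card (Subgroup.centralizer ({ι (rep i)} : Set G)) : ℂ) = 18 := by
    intro i hi
    rw [card_centralizer E ((dset_rep i).2 (by rcases hi with rfl | rfl <;> decide)),
      (by decide +kernel : ∀ i : Fin 9, i = 5 ∨ i = 7 →
        (Finset.univ.filter fun x : Wr => x * rep i * x⁻¹ = rep i).card = 18) i hi]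
    norm_num
  rcases hP with rfl | rfl
  · have h := ClassCount.pair_count (ι (rep 5)) (ι (rep 5)) (ι (rep 7))
    rw [count_three E (by decide +kernel) (by decide +kernel) (by decide +kernel) (by decide +kernel)
      (by decide +kernel) (by decide +kernel) (by decide +kernel) (by decide +kernel),
      (by decide +kernel : (Finset.univ.filter fun h : Wr =>
        cl h = cl (rep 5) ∧ cl (h⁻¹ * rep 7) = cl (rep 5)).card = 2), cen 5 (Or.inl rfl)] at h
    push_cast at h ⊢
    rw [show (648 : ℂ) = 2 * 18 * 18 by norm_num, h]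
    congr 1
    refine Finset.sum_congr rfl fun χ _ => ?_
    rw [real_value, show (χ : G → ℂ) (ι (rep 5)) = _ from (values E χ).1,
      show (χ : G → ℂ) (ι (rep 7)) = _ from (values E χ).2.1]
  · have h := ClassCount.pair_count (ι (rep 7)) (ι (rep 7)) (ι (rep 5))
    rw [count_three E (by decide +kernel) (by decide +kernel) (by decide +kernel) (by decide +kernel)
      (by decide +kernel) (by decide +kernel) (by decide +kernel) (by decide +kernel),
      (by decide +kernel : (Finset.univ.filter fun h : Wr =>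
        cl h = cl (rep 7) ∧ cl (h⁻¹ * rep 5) = cl (rep 7)).card = 2), cen 7 (Or.inr rfl)] at h
    push_cast at h ⊢
    rw [show (648 : ℂ) = 2 * 18 * 18 by norm_num, h]
    congr 1
    refine Finset.sum_congr rfl fun χ _ => ?_
    rw [real_value, show (χ : G → ℂ) (ι (rep 5)) = _ from (values E χ).1,
      show (χ : G → ℂ) (ι (rep 7)) = _ from (values E χ).2.1]
    ring

theorem vanish_at {y : G} (hy : y * y = 1) (x : IrrCharacter G → ℤ)
    (hx : ∀ χ : IrrCharacter G, (χ : G → ℂ) y = x χ) (k : Fin 4) :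
    ∑ χ, col E χ k * x χ = 0 := by
  have h := vanish (vec_vanish k) (ι := ι) (y := y) fun h hD hc => hD (E.inj ?_)
  · simp only [hx] at h
    exact_mod_cast h
  · obtain ⟨c, hc'⟩ := isConj_iff.1 hc
    rw [map_mul, map_mul, map_mul, map_one, ← hc',
      show c * y * c⁻¹ * (c * y * c⁻¹) * (c * y * c⁻¹) * (c * y * c⁻¹) =
        c * ((y * y) * (y * y)) * c⁻¹ by group, hy]
    group

/-- The principal character. -/
noncomputable def princ (G : Type u) [Group G] : IrrCharacter G :=
  ⟨fun _ => 1, isIrrCharacter_one⟩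

theorem col_princ (k : Fin 4) : col E (princ G) k = (![1, 0, 1, 0] : Fin 4 → ℤ) k := by
  have h := coef_one (vec_vanish k) ι (χ := princ G) fun _ => rfl
  rw [show Fintype.card Wr = 72 by decide +kernel, sum_vec] at h
  have : col E (princ G) k * 72 = 72 * (![1, 0, 1, 0] : Fin 4 → ℤ) k := h
  omega

end System

/-- No simple group contains this configuration. -/
theorem not_simple (E : Emb ι Dset) : ¬ IsSimpleGroup G := by
  classical
  intro hS
  haveI := hS
  haveI : Fintype G := Fintype.ofFinite G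
  have hG : ¬ IsMulCommutative G := fun h => by
    haveI := h
    have h1 : ι (rep 2 * rep 3) = ι (rep 3 * rep 2) := by rw [map_mul, map_mul, mul_comm']
    exact absurd (E.inj h1) (by decide +kernel)
  refine Sys.contradiction (I := IrrCharacter G)
    { o := princ G
      κ := col E
      d := deg
      t := valT E
      N := Nat.card G
      κ_o := funext (col_princ E)
      d_o := ?_
      t_o := ?_
      d_two := fun χ hχ => ?_
      d_dvd := fun χ => Int.natCast_dvd_natCast.2 (CharX.irr_deg_dvd_card χ)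
      N_ne := ?_
      sq := ?_
      t_le := fun χ => ?_
      orth := fun k l => by rw [col_princ, col_princ]; exact col_gram E k l
      van_d := fun k => vanish_at E (one_mul 1) deg (fun χ => by
        rw [← value_degree (ι := ι) χ]; simp [value, show rep 0 = 1 from rfl]) k
      van_t := fun k => vanish_at E (y := ι (rep 3)) (by rw [← map_mul, invol_t, map_one]) _
        (fun χ => (values E χ).2.2.2.2.1) k
      cong_t := fun χ => ⟨coef (fn_true pT_good) ι χ - Et (col E χ), by simp only [valT]; ring⟩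
      cong_d := cong_deg E
      eq_t := eq_lins E
      eq_cub := fun P hP => ?_ }
  · have h : ((deg (princ G) : ℤ) : ℂ) = ((1 : ℤ) : ℂ) := by
      rw [← value_degree (ι := ι)]; simp [value, princ]
    exact_mod_cast h
  · have h : ((valT E (princ G) : ℤ) : ℂ) = ((1 : ℤ) : ℂ) := by
      rw [← (values E (princ G)).2.2.2.2.1]; simp [value, princ]
    exact_mod_cast h
  · have := SelfCentral.irr_degree_ge_two hG χ fun e => hχ (by rw [e]; exact Subtype.ext rfl)
    simp only [deg]
    omega
  · exact_mod_cast Order720.card_ne_720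
  · have h := sum_sq_degree (G := G)
    simp only [CharX.irr_deg, pow_two] at h
    simp only [deg]
    exact_mod_cast h
  · have h := IsIrrCharacter.norm_le χ.2 (CharX.irr_deg χ) (ι (rep 3))
    rw [show (χ : G → ℂ) (ι (rep 3)) = _ from (values E χ).2.2.2.2.1] at h
    rw [Complex.norm_intCast] at h
    have h' : |valT E χ| ≤ deg χ := by simp only [deg]; exact_mod_cast h
    exact abs_le.1 h'
  · rw [Int.cast_natCast]; exact eq_cubs E P hP

end Cfsg.Agent.ThreeTI.Wreath
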