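import Cfsg.Agent.Lib.ThreeTI.Grid.Model

/-!
The model `S₃ ≀ 2` of the normaliser, its characters and its classes.
-/

set_option autoImplicit false
set_option maxRecDepth 20000
set_option linter.style.haveILetI false

namespace Cfsg.Agent.ThreeTI.Wreath

open Cfsg Cfsg.Agent.Char Cfsg.Agent.LocalTI

/-- The wreath product of the dihedral group of order 6 with a group of order 2. -/
structure Wr where
  p : Grid.Mod
  e : Bool
deriving DecidableEq, Fintype

/-- Exchange the coordinates if `e` holds. -/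
def flipIf (e : Bool) (p : Grid.Mod) : Grid.Mod := if e then p.swap else p

theorem flipIf_mul (e : Bool) (p q : Grid.Mod) : flipIf e (p * q) = flipIf e p * flipIf e q := by
  cases e <;> rfl

theorem flipIf_flipIf (e f : Bool) (p : Grid.Mod) : flipIf e (flipIf f p) = flipIf (xor e f) p := by
  cases e <;> cases f <;> rfl

instance : Mul Wr := ⟨fun a b => ⟨a.p * flipIf a.e b.p, xor a.e b.e⟩⟩
instance : One Wr := ⟨⟨1, false⟩⟩
instance : Inv Wr := ⟨fun a => ⟨flipIf a.e a.p⁻¹, a.e⟩⟩

theorem mul_def (a b : Wr) : a * b = ⟨a.p * flipIf a.e b.p, xor a.e b.e⟩ := rfl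
theorem one_def : (1 : Wr) = ⟨1, false⟩ := rfl
theorem inv_def (a : Wr) : a⁻¹ = ⟨flipIf a.e a.p⁻¹, a.e⟩ := rfl

instance : Group Wr where
  mul_assoc a b c := by
    obtain ⟨p, e⟩ := a; obtain ⟨q, f⟩ := b; obtain ⟨r, g⟩ := c
    simp [mul_def, flipIf_mul, flipIf_flipIf, mul_assoc]
  one_mul a := by obtain ⟨p, e⟩ := a; simp [mul_def, one_def, flipIf]
  mul_one a := by obtain ⟨p, e⟩ := a; cases e <;> simp [mul_def, one_def, flipIf, Prod.ext_iff]
  inv_mul_cancel a := by
    obtain ⟨p, e⟩ := a
    simp [mul_def, one_def, inv_def, ← flipIf_mul]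
    cases e <;> rfl

/-- The class of an element, among nine: `1, z, r, t₁, t₂, e, et, f, ft`. -/
def cl (h : Wr) : Fin 9 :=
  if h.e then ![4, 8, 2] (Grid.c3 (h.p.1 * h.p.2))
  else (![![0, 5, 3], ![5, 7, 6], ![3, 6, 1]] : Fin 3 → Fin 3 → Fin 9) (Grid.c3 h.p.1) (Grid.c3 h.p.2)

/-- Class representatives. -/
def rep : Fin 9 → Wr :=
  ![1, ⟨(.sr 0, .sr 0), false⟩, ⟨(.sr 0, 1), true⟩, ⟨(1, .sr 0), false⟩, ⟨1, true⟩,
    ⟨(.r 1, 1), false⟩, ⟨(.r 1, .sr 0), false⟩, ⟨(.r 1, .r 1), false⟩, ⟨(.r 1, 1), true⟩]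

/-- Class sizes. -/
def size : Fin 9 → ℤ := ![1, 9, 18, 6, 6, 4, 12, 4, 12]

/-- A class function. -/
def fn (f : Fin 9 → ℤ) (h : Wr) : ℤ := f (cl h)

theorem cl_conj : ∀ a b : Wr, cl (b * a * b⁻¹) = cl a := by decide +kernel

theorem conj_rep : ∀ h : Wr, ∃ k : Wr, k * rep (cl h) * k⁻¹ = h := by decide +kernel

theorem real_class : ∀ h : Wr, ∃ k : Wr, k * h * k⁻¹ = h⁻¹ := by decide +kernel

theorem card_fibre : ∀ i : Fin 9,
    ((Finset.univ.filter fun h : Wr => cl h = i).card : ℤ) = size i := by decide +kernel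

theorem fn_cls (f : Fin 9 → ℤ) (a b : Wr) : fn f (b * a * b⁻¹) = fn f a := by
  simp [fn, cl_conj]

/-- The elements whose 3-part is not trivial. -/
def Dset (h : Wr) : Prop := h * h * h * h ≠ 1

instance : DecidablePred Dset := fun h => inferInstanceAs (Decidable (h * h * h * h ≠ 1))

theorem dset_rep : ∀ i : Fin 9, Dset (rep i) ↔ 5 ≤ i := by decide +kernel

/-- The principal character. -/
def one9 : Fin 9 → ℤ := fun _ => 1
/-- The linear character `a`. -/
def lA : Fin 9 → ℤ := ![1, 1, -1, 1, -1, 1, 1, 1, -1]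
/-- The linear character `b`. -/
def lB : Fin 9 → ℤ := ![1, 1, -1, -1, 1, 1, -1, 1, 1]
/-- The linear character `c`. -/
def lC : Fin 9 → ℤ := ![1, 1, 1, -1, -1, 1, -1, 1, -1]
/-- The character of degree 2. -/
def dd : Fin 9 → ℤ := ![2, -2, 0, 0, 0, 2, 0, 2, 0]
/-- The first character of degree 4. -/
def x1 : Fin 9 → ℤ := ![4, 0, 0, 2, 0, 1, -1, -2, 0]
/-- The second character of degree 4. -/
def x2 : Fin 9 → ℤ := ![4, 0, 0, 0, 2, -2, 0, 1, -1]

/-- The sign of a dihedral element. -/
def refl (x : DihedralGroup 3) : Bool :=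
  match x with
  | .r _ => false
  | .sr _ => true

/-- The action on two pairs of points. -/
def permFour : Wr →* Equiv.Perm (Fin 4) :=
  let f : Wr → Fin 4 → Fin 4 := fun h i =>
    let j : Bool := xor h.e (decide (2 ≤ i.val))
    let s : Bool := xor (decide (i.val % 2 = 1)) (refl (if j then h.p.2 else h.p.1))
    ⟨(if j then 2 else 0) + (if s then 1 else 0), by split_ifs <;> omega⟩
  { toFun := fun h => ⟨f h, f h⁻¹, (by revert h; decide +kernel), (by revert h; decide +kernel)⟩
    map_one' := by ext i; revert i; decide +kernel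
    map_mul' := by decide +kernel }

/-- The action on six points. -/
def permSix : Wr →* Equiv.Perm (Bool × ZMod 3) :=
  let f : Wr → Bool × ZMod 3 → Bool × ZMod 3 := fun h q =>
    (xor h.e q.1, Grid.perm (if xor h.e q.1 then h.p.2 else h.p.1) q.2)
  { toFun := fun h => ⟨f h, f h⁻¹, (by revert h; decide +kernel), (by revert h; decide +kernel)⟩
    map_one' := by ext q <;> revert q <;> decide +kernel
    map_mul' := by decide +kernel }

/-- The product action on nine points. -/
def permNine : Wr →* Equiv.Perm (ZMod 3 × ZMod 3) :=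
  let f : Wr → ZMod 3 × ZMod 3 → ZMod 3 × ZMod 3 := fun h q =>
    (Grid.perm h.p.1 (if h.e then q.2 else q.1), Grid.perm h.p.2 (if h.e then q.1 else q.2))
  { toFun := fun h => ⟨f h, f h⁻¹, (by revert h; decide +kernel), (by revert h; decide +kernel)⟩
    map_one' := by ext q <;> revert q <;> decide +kernel
    map_mul' := by decide +kernel }

/-- A class function is a virtual character. -/
def Good (f : Fin 9 → ℤ) : Prop := Cfsg.IsGeneralizedCharacter Wr (fun h => (fn f h : ℂ))

theorem Good.congr {f g : Fin 9 → ℤ} (hf : Good f) (e : ∀ i, g i = f i) : Good g := by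
  obtain rfl : g = f := funext e
  exact hf

theorem Good.add {f g : Fin 9 → ℤ} (hf : Good f) (hg : Good g) : Good (f + g) := by
  have e : (fun h => (fn (f + g) h : ℂ)) = (fun h => (fn f h : ℂ)) + fun h => (fn g h : ℂ) := by
    funext h; simp [fn]
  simpa only [Good, e] using IsGeneralizedCharacter.add hf hg

theorem Good.sub {f g : Fin 9 → ℤ} (hf : Good f) (hg : Good g) : Good (f - g) := by
  have e : (fun h => (fn (f - g) h : ℂ)) = (fun h => (fn f h : ℂ)) - fun h => (fn g h : ℂ) := by
    funext h; simp [fn]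
  simpa only [Good, e] using IsGeneralizedCharacter.sub hf hg

theorem Good.mul {f g : Fin 9 → ℤ} (hf : Good f) (hg : Good g) : Good (f * g) := by
  have e : (fun h => (fn (f * g) h : ℂ)) = (fun h => (fn f h : ℂ)) * fun h => (fn g h : ℂ) := by
    funext h; simp [fn]
  simpa only [Good, e] using IsGeneralizedCharacter.mul hf hg

theorem good_one : Good one9 := by
  simpa [Good, fn, one9] using IsGeneralizedCharacter.of_isCharacter (G := Wr) isCharacter_one

theorem good_perm {X : Type} [Fintype X] [DecidableEq X] (φ : Wr →* Equiv.Perm X) (f : Fin 9 → ℤ)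
    (h : ∀ g : Wr, ((Finset.univ.filter fun x : X => φ g x = x).card : ℤ) = f (cl g)) : Good f := by
  letI : MulAction Wr X := MulAction.compHom X φ
  have e : (fun g : Wr => (fn f g : ℂ)) = FourTrans.piX Wr X := by
    funext g
    have h1 : Nat.card (MulAction.fixedBy X g) =
        (Finset.univ.filter fun x : X => φ g x = x).card := by
      rw [← Fintype.card_subtype, ← Nat.card_eq_fintype_card]
      rfl
    simp only [FourTrans.piX, h1, fn, ← h g, Int.cast_natCast]
  simpa only [Good, e] using IsGeneralizedCharacter.of_isCharacter (FourTrans.isCharacter_piX X)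

theorem sign_mul : ∀ (x y : Wr), ((if (x * y).e then -1 else 1 : ℤ)) =
      (if x.e then -1 else 1) * (if y.e then -1 else 1) ∧
    ((if xor (refl (x * y).p.1) (refl (x * y).p.2) then -1 else 1 : ℤ)) =
      (if xor (refl x.p.1) (refl x.p.2) then -1 else 1) *
        (if xor (refl y.p.1) (refl y.p.2) then -1 else 1) := by decide +kernel

theorem good_hom (s : Wr → Bool) (f : Fin 9 → ℤ) (h1 : s 1 = false)
    (hm : ∀ x y, (if s (x * y) then -1 else 1 : ℤ) =
      (if s x then -1 else 1) * (if s y then -1 else 1))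
    (hf : ∀ g, f (cl g) = if s g then -1 else 1) : Good f := by
  let φ : Wr →* ℂˣ :=
    { toFun := fun g => if s g then -1 else 1
      map_one' := by simp [h1]
      map_mul' := fun x y => by
        have := hm x y
        revert this
        cases s (x * y) <;> cases s x <;> cases s y <;> simp }
  have e : (fun g : Wr => (fn f g : ℂ)) = fun g => (φ g : ℂ) := by
    funext g
    simp only [fn, hf, φ, MonoidHom.coe_mk, OneHom.coe_mk]
    split_ifs <;> simp
  simpa only [Good, e] using IsGeneralizedCharacter.of_isCharacter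
    (IsIrrCharacter.isCharacter (isIrrCharacter_linear φ))

theorem good_lA : Good lA :=
  good_hom (fun g => g.e) lA rfl (fun x y => (sign_mul x y).1) (by decide +kernel)

theorem good_lB : Good lB :=
  good_hom (fun g => xor (refl g.p.1) (refl g.p.2)) lB rfl (fun x y => (sign_mul x y).2)
    (by decide +kernel)

theorem good_lC : Good lC := (good_lA.mul good_lB).congr (by decide)

theorem good_dd : Good dd :=
  ((good_perm permFour ![4, 0, 0, 2, 2 * 0, 4, 2, 4, 0] (by decide +kernel)).sub
    (good_one.add good_lA)).congr (by decide)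

theorem good_x1 : Good x1 :=
  ((good_perm permSix ![6, 2, 0, 4, 0, 3, 1, 0, 0] (by decide +kernel)).sub
    (good_one.add good_lA)).congr (by decide)

theorem good_x2 : Good x2 :=
  (((good_perm permNine ![9, 1, 1, 3, 3, 0, 0, 0, 0] (by decide +kernel)).sub good_one).sub
    good_x1).congr (by decide)

theorem fn_vanish {f : Fin 9 → ℤ} (hf : Good f) (h : ∀ i, i < 5 → f i = 0) :
    Vanish Dset (fn f) where
  cls := fn_cls f
  supp := fun a ha => by
    obtain ⟨k, hk⟩ := conj_rep a
    have h5 : 5 ≤ cl a := not_lt.1 fun hlt => ha (h _ hlt)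
    intro he
    refine (dset_rep _).2 h5 ?_
    rw [← hk, show k * rep (cl a) * k⁻¹ * (k * rep (cl a) * k⁻¹) * (k * rep (cl a) * k⁻¹) *
      (k * rep (cl a) * k⁻¹) = k * (rep (cl a) * rep (cl a) * rep (cl a) * rep (cl a)) * k⁻¹ by group,
      conj_eq_one_iff] at he
    exact he
  gen := hf

theorem fn_true {f : Fin 9 → ℤ} (hf : Good f) : Vanish (fun _ => True) (fn f) :=
  ⟨fn_cls f, fun _ _ => trivial, hf⟩

/-- The values of a character on the nine classes. -/
noncomputable def value {G : Type*} [Group G] (ι : Wr →* G) (χ : IrrCharacter G) (i : Fin 9) : ℂ :=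
  (χ : G → ℂ) (ι (rep i))

/-- The multiplicity of a character in a class function, from its values. -/
theorem coef_fn {G : Type*} [Group G] [Fintype G] {D : Wr → Prop} {f : Fin 9 → ℤ}
    (hv : Vanish D (fn f)) (ι : Wr →* G) (χ : IrrCharacter G) :
    72 * (coef hv ι χ : ℂ) = ∑ i : Fin 9, ((f i * size i : ℤ) : ℂ) * value ι χ i := by
  have h72 : Fintype.card Wr = 72 := by decide +kernel
  have h := coef_classes hv ι χ rep cl fun a _ => conj_rep a
  rw [h72] at h
  rw [show (72 : ℂ) = ((72 : ℕ) : ℂ) by norm_num, mul_comm, h]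
  refine Finset.sum_congr rfl fun i _ => ?_
  obtain ⟨l, hl⟩ := real_class (rep i)
  rw [conj_value ι χ (isConj_iff.2 ⟨l, hl⟩), ← card_fibre i]
  congr 2
  rw [Finset.sum_congr rfl (fun a ha => show fn f a = f i by
    rw [fn, (Finset.mem_filter.1 ha).2]), Finset.sum_const, nsmul_eq_mul]
  ring

end Cfsg.Agent.ThreeTI.Wreath
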